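import Cfsg.Prelude.Def_Transfer
import Cfsg.Agent.Lib.PGroup.Basic
import Cfsg.Agent.Lib.PGroup.Commutator
import Cfsg.Agent.Lib.Thompson.Replacement
import Cfsg.Agent.Lib.Coprime.Generation
import Cfsg.Agent.Lib.LinearGroup.TorusSylow

/-!
`2`-groups with an operator group of odd order in which no proper invariant subgroup contains a
noncyclic abelian subgroup of order eight.
-/

set_option autoImplicit false
set_option linter.unusedSectionVars false

namespace Cfsg.Agent.NoncycEight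

open Subgroup
open scoped commutatorElement

universe u

variable {Y : Type u} [Group Y] [Finite Y] {K : Type*} [Group K] [Finite K]

/-- `H` contains an abelian subgroup of order `8` and exponent at most `4`. -/
def NA8 (H : Subgroup Y) : Prop :=
  ∃ A : Subgroup Y, A ≤ H ∧ (∀ a ∈ A, ∀ b ∈ A, a * b = b * a) ∧ (∀ a ∈ A, a ^ 4 = 1) ∧
    Nat.card A = 8

theorem NA8.mono {H H' : Subgroup Y} (h : NA8 H) (hle : H ≤ H') : NA8 H' := by
  obtain ⟨A, h1, h2⟩ := h
  exact ⟨A, h1.trans hle, h2⟩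

theorem na8_map {X : Type*} [Group X] (f : Y →* X) (hf : Function.Injective f) {H : Subgroup Y}
    [Finite X] (h : NA8 H) : NA8 (H.map f) := by
  obtain ⟨A, h1, h2, h3, h4⟩ := h
  refine ⟨A.map f, map_mono h1, ?_, ?_, ?_⟩
  · rintro _ ⟨a, ha, rfl⟩ _ ⟨b, hb, rfl⟩
    rw [← map_mul, h2 a ha b hb, map_mul]
  · rintro _ ⟨a, ha, rfl⟩
    rw [← map_pow, h3 a ha, map_one]
  · rw [← Nat.card_congr (A.equivMapOfInjective f hf).toEquiv, h4]

theorem na8_comap {X : Type*} [Group X] [Finite X] (f : Y →* X) (hf : Function.Injective f)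
    {H : Subgroup Y} (h : NA8 (H.map f)) : NA8 H := by
  obtain ⟨A, h1, h2, h3, h4⟩ := h
  refine ⟨A.comap f, fun y hy => ?_, fun a ha b hb => hf ?_, fun a ha => hf ?_, ?_⟩
  · obtain ⟨x, hx, hxy⟩ := h1 (show f y ∈ A from hy)
    rwa [← hf hxy]
  · rw [map_mul, map_mul]; exact h2 _ ha _ hb
  · rw [map_pow, map_one]; exact h3 _ ha
  · rw [Nat.card_congr ((A.comap f).equivMapOfInjective f hf).toEquiv,
      map_comap_eq_self (h1.trans (map_le_range _ _)), h4]

/-- Adjoining a commuting element with square in `M` to an abelian subgroup of order `4`. -/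
theorem na8_of {M : Subgroup Y} (hc : ∀ a ∈ M, ∀ b ∈ M, a * b = b * a) (h4 : Nat.card M = 4)
    {f : Y} (hf : f ∉ M) (hfM : ∀ m ∈ M, m * f = f * m) (hf2 : f ^ 2 ∈ M) (hf4 : f ^ 4 = 1) :
    NA8 (M ⊔ zpowers f) := by
  set A := M ⊔ zpowers f
  have hA : IsMulCommutative A := by
    have h1 : A = closure ((M : Set Y) ∪ {f}) := by
      rw [Subgroup.closure_union, closure_eq, ← zpowers_eq_closure]
    rw [h1]
    refine isMulCommutative_closure ?_
    rintro a (ha | ha) b (hb | hb)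
    · exact hc a ha b hb
    · rw [Set.mem_singleton_iff.mp hb]; exact hfM a ha
    · rw [Set.mem_singleton_iff.mp ha]; exact (hfM b hb).symm
    · rw [Set.mem_singleton_iff.mp ha, Set.mem_singleton_iff.mp hb]
  have hmulcomm : ∀ a ∈ A, ∀ b ∈ A, a * b = b * a := fun a ha b hb => by
    haveI := hA
    exact congrArg Subtype.val (mul_comm' (⟨a, ha⟩ : A) ⟨b, hb⟩)
  have hdec : ∀ a ∈ A, a ∈ M ∨ a * f ∈ M := by
    intro a ha
    obtain ⟨m, hm, g, hg, rfl⟩ := Coprime.exists_mul_of_mem_sup (H := zpowers f)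
      (fun g hg => centralizer_le_normalizer _ (mem_centralizer_iff.mpr fun m hm =>
        hmulcomm m (mem_sup_left hm) g (mem_sup_right hg))) ha
    obtain ⟨j, rfl⟩ := mem_zpowers_iff.mp hg
    have hev : ∀ i : ℤ, f ^ (2 * i) ∈ M := fun i => by
      rw [zpow_mul, zpow_ofNat]; exact zpow_mem hf2 i
    rcases Int.even_or_odd' j with ⟨i, rfl | rfl⟩
    · exact Or.inl (mul_mem hm (hev i))
    · refine Or.inr ?_
      rw [mul_assoc, ← zpow_add_one, show 2 * i + 1 + 1 = 2 * (i + 1) by ring]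
      exact mul_mem hm (hev _)
  refine ⟨A, le_rfl, hmulcomm, fun a ha => ?_, ?_⟩
  · rcases hdec a ha with h | h
    · haveI := Fintype.ofFinite M
      have := pow_card_eq_one' (x := (⟨a, h⟩ : M))
      rw [h4] at this
      exact congrArg Subtype.val this
    · have hc2 : Commute (a * f) f :=
        hfM _ h
      have hm4 : (a * f) ^ 4 = 1 := by
        have := pow_card_eq_one' (x := (⟨a * f, h⟩ : M))
        rw [h4] at this
        exact congrArg Subtype.val this
      rw [show a = a * f * f⁻¹ by group, hc2.inv_right.mul_pow, hm4, inv_pow, hf4, inv_one, mul_one]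
  · have hidx : (M.subgroupOf A).index = 2 := by
      refine index_eq_two_iff.mpr ⟨⟨f, mem_sup_right (mem_zpowers f)⟩, fun b => ?_⟩
      show Xor ((b : Y) * f ∈ M) ((b : Y) ∈ M)
      rcases hdec b b.2 with h | h
      · exact Or.inr ⟨h, fun h' => hf (by simpa using mul_mem (inv_mem h) h')⟩
      · exact Or.inl ⟨h, fun h' => hf (by simpa using mul_mem (inv_mem h') h)⟩
    rw [← (M.subgroupOf A).card_mul_index, hidx,
      Nat.card_congr (subgroupOfEquivOfLe le_sup_left).toEquiv, h4]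

/-- An element outside `N` with square in `N`. -/
theorem exists_sq_mem (hY : IsPGroup 2 Y) {N H : Subgroup Y} (hlt : N < H)
    (hn : H ≤ normalizer (N : Set Y)) : ∃ f ∈ H, f ∉ N ∧ f ^ 2 ∈ N := by
  haveI := normal_subgroupOf_of_le_normalizer hn
  have hne : 2 ∣ Nat.card (H ⧸ N.subgroupOf H) := by
    obtain ⟨k, hk⟩ := ((hY.to_subgroup H).to_quotient (N.subgroupOf H)).exists_card_eq
    rw [hk]
    refine dvd_pow_self 2 fun h0 => hlt.not_ge (subgroupOf_eq_top.mp ?_)
    rw [← index_eq_one, index_eq_card, hk, h0, pow_zero]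
  obtain ⟨x, hx⟩ := exists_prime_orderOf_dvd_card' 2 hne
  obtain ⟨f, rfl⟩ := QuotientGroup.mk'_surjective _ x
  refine ⟨f, f.2, fun h => ?_, ?_⟩
  · rw [show QuotientGroup.mk' (N.subgroupOf H) f = 1 from (QuotientGroup.eq_one_iff f).mpr h,
      orderOf_one] at hx
    omega
  · have h1 := pow_orderOf_eq_one (QuotientGroup.mk' (N.subgroupOf H) f)
    rw [hx, ← map_pow] at h1
    exact ((QuotientGroup.eq_one_iff (f ^ 2)).mp h1 : f ^ 2 ∈ N.subgroupOf H)

/-! ### The operator group -/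

variable (φ : K →* MulAut Y)

/-- The subgroup is invariant under the operators. -/
def Inv (H : Subgroup Y) : Prop := ∀ k : K, ∀ y ∈ H, φ k y ∈ H

theorem inv_of_characteristic (H : Subgroup Y) [hH : H.Characteristic] : Inv φ H := fun k _ hy =>
  (characteristic_iff_le_comap.mp hH (φ k)) hy

theorem not_mem_of_inv {H : Subgroup Y} (hH : Inv φ H) {y : Y} (hy : y ∉ H) (k : K) :
    φ k y ∉ H := fun h => hy (by
  have := hH k⁻¹ _ h
  rwa [← MulAut.mul_apply, ← map_mul, inv_mul_cancel, map_one] at this)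

/-- The subgroup moved by the operators. -/
def moved : Subgroup Y := closure (Set.range fun x : K × Y => x.2⁻¹ * φ x.1 x.2)

theorem mem_moved (k : K) (y : Y) : y⁻¹ * φ k y ∈ moved φ := subset_closure ⟨(k, y), rfl⟩

theorem inv_of_moved_le {H : Subgroup Y} (h : moved φ ≤ H) : Inv φ H := fun k y hy => by
  simpa using mul_mem hy (h (mem_moved φ k y))

instance moved_normal : (moved φ).Normal := by
  refine ⟨fun n hn g => ?_⟩
  induction hn using closure_induction with
  | mem n hn =>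
    obtain ⟨⟨k, y⟩, rfl⟩ := hn
    have : g * (y⁻¹ * φ k y) * g⁻¹ = ((y * g⁻¹)⁻¹ * φ k (y * g⁻¹)) *
        ((g⁻¹)⁻¹ * φ k g⁻¹)⁻¹ := by
      rw [map_mul, map_inv]; group
    rw [this]
    exact mul_mem (mem_moved φ k _) (inv_mem (mem_moved φ k _))
  | one => simp
  | mul a b _ _ ha hb =>
    rw [show g * (a * b) * g⁻¹ = (g * a * g⁻¹) * (g * b * g⁻¹) by group]; exact mul_mem ha hb
  | inv a _ ha => rw [show g * a⁻¹ * g⁻¹ = (g * a * g⁻¹)⁻¹ by group]; exact inv_mem ha

/-- The action on an invariant subgroup. -/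
def restr (H : Subgroup Y) (hH : Inv φ H) : K →* MulAut H where
  toFun k :=
    { toFun := fun y => ⟨φ k y, hH k y y.2⟩
      invFun := fun y => ⟨φ k⁻¹ y, hH k⁻¹ y y.2⟩
      left_inv := fun y => Subtype.ext (by
        show φ k⁻¹ (φ k (y : Y)) = y
        rw [← MulAut.mul_apply, ← map_mul, inv_mul_cancel, map_one]; rfl)
      right_inv := fun y => Subtype.ext (by
        show φ k (φ k⁻¹ (y : Y)) = y
        rw [← MulAut.mul_apply, ← map_mul, mul_inv_cancel, map_one]; rfl)
      map_mul' := fun a b => Subtype.ext (map_mul (φ k) (a : Y) b) }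
  map_one' := MulEquiv.ext fun y => Subtype.ext (by show φ 1 (y : Y) = y; rw [map_one]; rfl)
  map_mul' a b := MulEquiv.ext fun y => Subtype.ext (by
    show φ (a * b) (y : Y) = φ a (φ b y); rw [map_mul]; rfl)

theorem restr_coe (H : Subgroup Y) (hH : Inv φ H) (k : K) (y : H) :
    ((restr φ H hH k y : H) : Y) = φ k y := rfl

/-- The action on an invariant quotient. -/
def quot (N : Subgroup Y) [N.Normal] (hN : Inv φ N) : K →* MulAut (Y ⧸ N) where
  toFun k := QuotientGroup.congr N N (φ k) (by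
    ext y
    constructor
    · rintro ⟨x, hx, rfl⟩; exact hN k x hx
    · intro hy
      exact ⟨φ k⁻¹ y, hN k⁻¹ y hy, by
        show φ k (φ k⁻¹ y) = y
        rw [← MulAut.mul_apply, ← map_mul, mul_inv_cancel, map_one]; rfl⟩)
  map_one' := MulEquiv.ext fun x => by
    refine QuotientGroup.induction_on x fun y => ?_
    show ((φ 1 y : Y) : Y ⧸ N) = _
    rw [map_one]; rfl
  map_mul' a b := MulEquiv.ext fun x => by
    refine QuotientGroup.induction_on x fun y => ?_
    show ((φ (a * b) y : Y) : Y ⧸ N) = ((φ a (φ b y) : Y) : Y ⧸ N)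
    rw [map_mul]; rfl

theorem quot_mk (N : Subgroup Y) [N.Normal] (hN : Inv φ N) (k : K) (y : Y) :
    quot φ N hN k (y : Y ⧸ N) = ((φ k y : Y) : Y ⧸ N) := rfl

variable (hY : IsPGroup 2 Y) (hK : Odd (Nat.card K))

include hY hK in
theorem eq_one_of_displacement {k : K} {y d : Y} (hy : φ k y = y * d) (hd : φ k d = d) :
    d = 1 := by
  have h : ∀ n : ℕ, φ (k ^ n) y = y * d ^ n := by
    intro n
    induction n with
    | zero => simp
    | succ n ih =>
      rw [pow_succ', map_mul, MulAut.mul_apply, ih, map_mul, map_pow, hd, hy, mul_assoc,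
        ← pow_succ']
  have h1 := h (Nat.card K)
  rw [pow_card_eq_one', map_one, MulAut.one_apply, left_eq_mul] at h1
  exact PGroup.eq_one_of_pow_coprime hY hK.coprime_two_left h1

include hY hK in
/-- Moving is idempotent. -/
theorem moved_restr_moved :
    moved (restr φ (moved φ) (inv_of_moved_le φ le_rfl)) = ⊤ := by
  set M := moved φ
  set hM : Inv φ M := inv_of_moved_le φ le_rfl
  set D := moved (restr φ M hM) with hD
  have hDinv : Inv (restr φ M hM) D := inv_of_moved_le _ le_rfl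
  set ψ := quot (restr φ M hM) D hDinv
  rw [eq_top_iff]
  rintro ⟨m, hm⟩ -
  suffices h : ∀ (k : K) (y : Y), (⟨y⁻¹ * φ k y, mem_moved φ k y⟩ : M) ∈ D by
    have hle : M ≤ D.map M.subtype := by
      show Subgroup.closure _ ≤ _
      rw [closure_le]
      rintro _ ⟨⟨k, y⟩, rfl⟩
      exact ⟨_, h k y, rfl⟩
    obtain ⟨m', hm', hmm⟩ := hle hm
    rwa [← show m' = ⟨m, hm⟩ from Subtype.ext hmm]
  intro k y
  set d : M := ⟨y⁻¹ * φ k y, mem_moved φ k y⟩
  have hfix : ∀ (j : K) (x : M), (restr φ M hM j x : M ⧸ D) = (x : M ⧸ D) := fun j x =>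
    (QuotientGroup.eq.mpr (mem_moved (restr φ M hM) j x)).symm
  have h : ∀ n : ℕ, ∀ hn : y⁻¹ * φ (k ^ n) y ∈ M,
      ((⟨_, hn⟩ : M) : M ⧸ D) = (d : M ⧸ D) ^ n := by
    intro n
    induction n with
    | zero =>
      intro hn
      rw [show (⟨_, hn⟩ : M) = 1 from Subtype.ext (by simp), QuotientGroup.mk_one,
        pow_zero (d : M ⧸ D)]
    | succ n ih =>
      intro hn
      have hn' := mem_moved φ (k ^ n) y
      rw [show (⟨_, hn⟩ : M) = d * restr φ M hM k ⟨_, hn'⟩ from Subtype.ext (by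
        show y⁻¹ * φ (k ^ (n + 1)) y = y⁻¹ * φ k y * φ k (y⁻¹ * φ (k ^ n) y)
        rw [map_mul (φ k), map_inv, pow_succ', map_mul φ, MulAut.mul_apply]; group),
        QuotientGroup.mk_mul, hfix, ih hn', pow_succ']
  have h1 := h (Nat.card K) (mem_moved φ _ y)
  rw [show (⟨y⁻¹ * φ (k ^ Nat.card K) y, mem_moved φ _ y⟩ : M) = 1 from Subtype.ext (by
    simp [pow_card_eq_one']), QuotientGroup.mk_one] at h1
  exact (QuotientGroup.eq_one_iff d).mp (PGroup.eq_one_of_pow_coprime
    ((hY.to_subgroup M).to_quotient D) hK.coprime_two_left h1.symm)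

variable {φ} in
/-- An invariant homomorphism vanishes when everything is moved. -/
theorem hom_eq_one (hmv : moved φ = ⊤) {A : Type*} [CommGroup A] (F : Y →* A)
    (hF : ∀ k y, F (φ k y) = F y) : F = 1 := by
  refine MonoidHom.eq_of_eqOn_dense hmv ?_
  rintro _ ⟨⟨k, y⟩, rfl⟩
  simp [hF]

variable {φ} in
include hY hK in
/-- A point fixed modulo `D ⊇ Y'` lies in `D`. -/
theorem mem_of_fixed (hmv : moved φ = ⊤) (D : Subgroup Y) [D.Normal] (hD : Inv φ D)
    (hc : commutator Y ≤ D) {y : Y} (hy : ∀ k, y⁻¹ * φ k y ∈ D) : y ∈ D := by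
  haveI := Fintype.ofFinite K
  letI : CommGroup (Y ⧸ D) :=
    { (inferInstance : Group (Y ⧸ D)) with
      mul_comm := fun a b => by
        obtain ⟨a, rfl⟩ := QuotientGroup.mk'_surjective D a
        obtain ⟨b, rfl⟩ := QuotientGroup.mk'_surjective D b
        rw [← commutatorElement_eq_one_iff_mul_comm, ← map_commutatorElement]
        exact (QuotientGroup.eq_one_iff _).mpr
          (hc (PGroup.commutatorElement_mem_commutator a b)) }
  let F : Y →* Y ⧸ D :=
    { toFun := fun x => ∏ k : K, QuotientGroup.mk' D (φ k x)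
      map_one' := by simp
      map_mul' := fun a b => by simp [Finset.prod_mul_distrib] }
  have hF : F = 1 := hom_eq_one hmv F fun j x => by
    show ∏ k : K, QuotientGroup.mk' D (φ k (φ j x)) = ∏ k : K, QuotientGroup.mk' D (φ k x)
    exact Fintype.prod_equiv (Equiv.mulRight j) _ _ fun k => by
      rw [Equiv.coe_mulRight, map_mul φ, MulAut.mul_apply]
  have h1 : (QuotientGroup.mk' D y) ^ Nat.card K = 1 := by
    rw [← show F y = 1 by rw [hF]; rfl]
    show _ = ∏ k : K, QuotientGroup.mk' D (φ k y)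
    have h2 : ∀ k, QuotientGroup.mk' D (φ k y) = QuotientGroup.mk' D y := fun k =>
      (QuotientGroup.eq.mpr (hy k)).symm
    simp only [h2, Finset.prod_const, Finset.card_univ, Nat.card_eq_fintype_card]
  exact (QuotientGroup.eq_one_iff y).mp
    (PGroup.eq_one_of_pow_coprime (hY.to_quotient D) hK.coprime_two_left h1)

variable {φ} in
/-- A subgroup fixed pointwise is central when everything is moved. -/
theorem le_center_of_fixed (hmv : moved φ = ⊤) {N : Subgroup Y} [N.Normal]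
    (hfix : ∀ k, ∀ f ∈ N, φ k f = f) : N ≤ center Y := by
  intro f hf
  refine mem_center_iff.mpr fun x => ?_
  have hle : moved φ ≤ centralizer ({f} : Set Y) := by
    show Subgroup.closure _ ≤ _
    rw [closure_le]
    rintro _ ⟨⟨k, y⟩, rfl⟩
    refine mem_centralizer_singleton_iff.mpr ?_
    have h1 := hfix k _ ((inferInstance : N.Normal).conj_mem f hf y)
    rw [map_mul, map_mul, map_inv, hfix k f hf] at h1
    show y⁻¹ * φ k y * f = f * (y⁻¹ * φ k y)
    calc y⁻¹ * φ k y * f = y⁻¹ * (φ k y * f * (φ k y)⁻¹) * φ k y := by group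
      _ = f * (y⁻¹ * φ k y) := by rw [h1]; group
  exact mem_centralizer_singleton_iff.mp (hle (hmv ▸ mem_top x))

theorem inv_mul_mem_of_card_double {H H' : Subgroup Y} (hle : H ≤ H')
    (hc : Nat.card H' = Nat.card H * 2) {a b : Y} (ha : a ∈ H') (hb : b ∈ H') (ha' : a ∉ H)
    (hb' : b ∉ H) : a⁻¹ * b ∈ H := by
  have hidx : (H.subgroupOf H').index = 2 := by
    have := (H.subgroupOf H').card_mul_index
    rw [Nat.card_congr (subgroupOfEquivOfLe hle).toEquiv, hc] at this
    exact Nat.eq_of_mul_eq_mul_left Nat.card_pos this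
  have h := (mul_mem_iff_of_index_two hidx (a := (⟨a, ha⟩ : H')⁻¹) (b := ⟨b, hb⟩)).mpr
  exact h ⟨fun h1 => absurd ((inv_mem_iff).mp h1) (fun h2 => ha' h2), fun h1 => absurd h1 hb'⟩

include hY hK in
/-- A moved invariant normal section of order four is central. -/
theorem central_section (M N : Subgroup Y) [M.Normal] [N.Normal] (hM : Inv φ M) (hN : Inv φ N)
    (hle : N ≤ M) (hc : Nat.card M = Nat.card N * 4)
    (hmove : ¬ ∀ k, ∀ m ∈ M, m⁻¹ * φ k m ∈ N) : ∀ y : Y, ∀ m ∈ M, ⁅y, m⁆ ∈ N := by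
  set π := QuotientGroup.mk' N
  set F := M ⊓ (center (Y ⧸ N)).comap π with hFdef
  suffices hFM : F = M by
    intro y m hm
    have h1 : π m ∈ center (Y ⧸ N) := (hFM.ge hm).2
    refine (QuotientGroup.eq_one_iff _).mp ?_
    rw [← QuotientGroup.mk'_apply, map_commutatorElement, commutatorElement_eq_one_iff_mul_comm]
    exact mem_center_iff.mp h1 (π y)
  by_contra hne
  have hFinv : Inv φ F := fun k x hx => ⟨hM k x hx.1, by
    show π (φ k x) ∈ center (Y ⧸ N)
    refine mem_center_iff.mpr fun z => ?_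
    obtain ⟨z, rfl⟩ := QuotientGroup.mk'_surjective N z
    have h2 := congrArg (quot φ N hN k) (mem_center_iff.mp hx.2 (π (φ k⁻¹ z)))
    rw [map_mul, map_mul, show quot φ N hN k (π (φ k⁻¹ z)) = π z by
      show ((φ k (φ k⁻¹ z) : Y) : Y ⧸ N) = _
      rw [← MulAut.mul_apply, ← map_mul, mul_inv_cancel, map_one]; rfl] at h2
    exact h2⟩
  have hNF : N ≤ F := le_inf hle fun n hn => by
    show π n ∈ center _
    rw [show π n = 1 from (QuotientGroup.eq_one_iff n).mpr hn]
    exact one_mem _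
  have hne' : N ≠ F := by
    intro h
    haveI : (M.map π).Normal := (inferInstance : M.Normal).map π (QuotientGroup.mk'_surjective N)
    refine PGroup.inf_center_ne_bot (hY.to_quotient N) (N := M.map π) ?_ ?_
    · intro h1
      rw [Subgroup.map_eq_bot_iff, QuotientGroup.ker_mk'] at h1
      have h2 : Nat.card M ≤ Nat.card N := card_le_of_le h1
      have h3 : 0 < Nat.card N := Nat.card_pos
      omega
    · rw [eq_bot_iff]
      rintro _ ⟨⟨m, hm, rfl⟩, hmc⟩
      exact (QuotientGroup.eq_one_iff m).mpr (h.ge ⟨hm, hmc⟩)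
  obtain ⟨a, ha⟩ := (hY.to_subgroup F).exists_card_eq
  obtain ⟨b, hb⟩ := (hY.to_subgroup N).exists_card_eq
  have hF1 : Nat.card N < Nat.card F := lt_of_le_of_ne (card_le_of_le hNF)
    fun h => hne' (Subgroup.eq_of_le_of_card_ge hNF h.ge)
  have hF2 : Nat.card F < Nat.card M := lt_of_le_of_ne (card_le_of_le inf_le_left)
    fun h => hne (Subgroup.eq_of_le_of_card_ge inf_le_left h.ge)
  have hab : a = b + 1 := by
    rw [ha, hb] at hF1
    rw [ha, hc, hb, show 2 ^ b * 4 = 2 ^ (b + 2) by rw [pow_add]; norm_num] at hF2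
    have := (Nat.pow_lt_pow_iff_right (by norm_num)).mp hF1
    have := (Nat.pow_lt_pow_iff_right (by norm_num)).mp hF2
    omega
  have hFc : Nat.card F = Nat.card N * 2 := by rw [ha, hb, hab, pow_succ]
  have hMc : Nat.card M = Nat.card F * 2 := by rw [hc, hFc]; ring
  have hfix : ∀ k, ∀ f ∈ F, f⁻¹ * φ k f ∈ N := by
    intro k f hf
    by_cases hfN : f ∈ N
    · exact mul_mem (inv_mem hfN) (hN k f hfN)
    · exact inv_mul_mem_of_card_double hNF hFc hf (hFinv k f hf) hfN (not_mem_of_inv φ hN hfN k)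
  refine hmove fun k m hm => ?_
  by_cases hmF : m ∈ F
  · exact hfix k m hmF
  have hd := inv_mul_mem_of_card_double (inf_le_left : F ≤ M) hMc hm (hM k m hm) hmF
    (not_mem_of_inv φ hFinv hmF k)
  refine (QuotientGroup.eq_one_iff _).mp (eq_one_of_displacement (quot φ N hN) (hY.to_quotient N)
    hK (k := k) (y := (m : Y ⧸ N)) ?_ ?_)
  · rw [quot_mk, ← QuotientGroup.mk_mul, mul_inv_cancel_left]
  · rw [quot_mk]
    exact (QuotientGroup.eq.mpr (hfix k _ hd)).symm

/-- A Klein four-group. -/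
def IsKlein (M : Subgroup Y) : Prop :=
  Nat.card M = 4 ∧ (∀ m ∈ M, m ^ 2 = 1) ∧ ∀ a ∈ M, ∀ b ∈ M, a * b = b * a

/-- A quaternion group of order `8`, presented by its elements. -/
def IsQuat (M : Subgroup Y) : Prop :=
  Nat.card M = 8 ∧ ∃ z ∈ M, ∃ i ∈ M, ∃ j ∈ M, z ≠ 1 ∧ z ^ 2 = 1 ∧ i ^ 2 = z ∧ j ^ 2 = z ∧
    i * j ≠ j * i ∧ (∀ m ∈ M, m * z = z * m) ∧ (∀ m ∈ M, (∀ x ∈ M, m * x = x * m) → m = 1 ∨ m = z) ∧
    ∀ a ∈ M, ∀ b ∈ M, ⁅a, b⁆ = 1 ∨ ⁅a, b⁆ = z

/-- A subgroup of a cyclic-centre group in which the only elements of order two is central. -/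
theorem cyclic_of_unique {H : Subgroup Y} (hY : IsPGroup 2 Y) (hc : ∀ a ∈ H, ∀ b ∈ H, a * b = b * a)
    (h : ¬ IsCyclic H) : ∃ M : Subgroup Y, M ≤ H ∧ IsKlein M := by
  haveI : IsMulCommutative H := ⟨⟨fun a b => Subtype.ext (hc a a.2 b b.2)⟩⟩
  obtain ⟨r, hr, hrH, a, ha, b, hb, har, hbr, ha1, hba⟩ :=
    Coprime.exists_independent_of_not_isCyclic H h
  obtain ⟨k, hk⟩ := (hY.to_subgroup H).exists_card_eq
  rw [hk] at hrH
  obtain rfl := (Nat.prime_dvd_prime_iff_eq hr Nat.prime_two).mp (hr.dvd_of_dvd_pow hrH)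
  have haord : orderOf a = 2 := orderOf_eq_prime har ha1
  refine ⟨zpowers a ⊔ zpowers b, sup_le (zpowers_le.mpr ha) (zpowers_le.mpr hb), ?_, ?_, ?_⟩
  · have h1 := Thompson.card_sup_mul_card_inf (H := zpowers a) (K := zpowers b)
      (zpowers_le.mpr (centralizer_le_normalizer _ (mem_centralizer_iff.mpr fun x hx =>
        hc x (zpowers_le.mpr ha hx) b hb)))
    have hbord : orderOf b = 2 := orderOf_eq_prime hbr fun h => hba (h ▸ one_mem _)
    rw [Nat.card_zpowers, Nat.card_zpowers, haord, hbord] at h1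
    have h2 : zpowers a ⊓ zpowers b = ⊥ := by
      rw [eq_bot_iff]
      rintro x ⟨hxa, hxb⟩
      obtain ⟨i, rfl⟩ := mem_zpowers_iff.mp hxb
      rcases Int.even_or_odd' i with ⟨j, rfl | rfl⟩
      · rw [mem_bot, zpow_mul, zpow_ofNat, hbr, one_zpow]
      · refine absurd ?_ hba
        rwa [zpow_add_one, zpow_mul, zpow_ofNat, hbr, one_zpow, one_mul] at hxa
    rw [h2, card_bot, mul_one] at h1
    exact h1
  · intro m hm
    have hmH : m ∈ H := sup_le (zpowers_le.mpr ha) (zpowers_le.mpr hb) hm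
    let S : Subgroup Y :=
      { carrier := {x | x ∈ H ∧ x ^ 2 = 1}
        one_mem' := ⟨one_mem _, one_pow 2⟩
        mul_mem' := fun {x y} hx hy => ⟨mul_mem hx.1 hy.1, by
          rw [(show Commute x y from hc x hx.1 y hy.1).mul_pow, hx.2, hy.2, one_mul]⟩
        inv_mem' := fun {x} hx => ⟨inv_mem hx.1, by rw [inv_pow, hx.2, inv_one]⟩ }
    exact ((sup_le (zpowers_le.mpr (show a ∈ S from ⟨ha, har⟩))
      (zpowers_le.mpr (show b ∈ S from ⟨hb, hbr⟩)) : zpowers a ⊔ zpowers b ≤ S) hm).2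
  · exact fun x hx y hy => hc x (sup_le (zpowers_le.mpr ha) (zpowers_le.mpr hb) hx) y
      (sup_le (zpowers_le.mpr ha) (zpowers_le.mpr hb) hy)

/-- A Klein four-group with a commuting element outside, in `H`, gives order eight. -/
theorem na8_of_klein (hY : IsPGroup 2 Y) {M H : Subgroup Y} (hM : IsKlein M) (hlt : M < H)
    (hcen : ∀ m ∈ M, ∀ f ∈ H, m * f = f * m) : NA8 H := by
  obtain ⟨f, hfH, hfM, hf2⟩ := exists_sq_mem hY hlt
    fun g hg => centralizer_le_normalizer _ (mem_centralizer_iff.mpr fun m hm => hcen m hm g hg)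
  refine (na8_of hM.2.2 hM.1 hfM (fun m hm => hcen m hm f hfH) hf2 ?_).mono
    (sup_le hlt.le (zpowers_le.mpr hfH))
  rw [show 4 = 2 * 2 from rfl, pow_mul, hM.2.1 _ hf2]

/-- The squaring map into a central quotient. -/
theorem sq_hom {D : Subgroup Y} [D.Normal] (hc : commutator Y ≤ D) (hYc : commutator Y ≤ center Y)
    (a b : Y) : ((a * b) ^ 2 : Y ⧸ D) = ((a ^ 2 : Y) : Y ⧸ D) * ((b ^ 2 : Y) : Y ⧸ D) := by
  have h := PGroup.mul_pow_classTwo hYc a b 2
  rw [show Nat.choose 2 2 = 1 from rfl, pow_one] at h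
  rw [← QuotientGroup.mk_mul, ← QuotientGroup.mk_mul, ← QuotientGroup.mk_pow, h]
  refine (QuotientGroup.eq).mpr ?_
  rw [mul_inv_rev, mul_assoc, inv_mul_cancel, mul_one]
  exact inv_mem (hc (PGroup.commutatorElement_mem_commutator b a))

variable {φ} in
include hY hK in
/-- Squares lie in an invariant `D ⊇ Y'` modulo which the operators fix all squares. -/
theorem frattini_le_of_squares (hmv : moved φ = ⊤) {D : Subgroup Y} [D.Normal]
    (hc : commutator Y ≤ D) (hYc : commutator Y ≤ center Y)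
    (hfix : ∀ k, ∀ y : Y, ((y ^ 2)⁻¹ * φ k (y ^ 2)) ∈ D) : frattini Y ≤ D := by
  letI : CommGroup (Y ⧸ D) :=
    { (inferInstance : Group (Y ⧸ D)) with
      mul_comm := fun a b => by
        obtain ⟨a, rfl⟩ := QuotientGroup.mk'_surjective D a
        obtain ⟨b, rfl⟩ := QuotientGroup.mk'_surjective D b
        rw [← commutatorElement_eq_one_iff_mul_comm, ← map_commutatorElement]
        exact (QuotientGroup.eq_one_iff _).mpr
          (hc (PGroup.commutatorElement_mem_commutator a b)) }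
  let F : Y →* Y ⧸ D := MonoidHom.mk' (fun y => ((y ^ 2 : Y) : Y ⧸ D)) fun a b => sq_hom hc hYc a b
  have hF : F = 1 := hom_eq_one hmv F fun k y => by
    show ((φ k y ^ 2 : Y) : Y ⧸ D) = ((y ^ 2 : Y) : Y ⧸ D)
    rw [← map_pow]
    exact (QuotientGroup.eq.mpr (hfix k y)).symm
  rw [PGroup.frattini_eq_closure_sq hY, closure_le]
  rintro _ ⟨y, rfl⟩
  exact (QuotientGroup.eq_one_iff _).mp (DFunLike.congr_fun hF y : F y = 1)

end Cfsg.Agent.NoncycEight
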