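import Cfsg.Agent.NoncycEight.Quat
import Cfsg.Agent.OddLocal44.Stability
import Cfsg.Agent.Lib.Solvable.Hall

/-!
A solvable group with trivial `O_{2'}` that is minimal with a noncyclic abelian subgroup of order
eight has a normal Sylow `2`-subgroup of restricted structure.
-/

set_option autoImplicit false
set_option linter.unusedSectionVars false

namespace Cfsg.Agent.NoncycEight

open Subgroup
open scoped commutatorElement

universe u

variable {S : Type u} [Group S] [Finite S]

theorem na8_of_abelian {A H : Subgroup S} (hle : A ≤ H) (hc : IsMulCommutative A)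
    (hcyc : ¬ IsCyclic A) (h8 : Nat.card A = 8) : NA8 H := by
  haveI := hc
  refine ⟨A, hle, fun a ha b hb => congrArg Subtype.val (mul_comm' (⟨a, ha⟩ : A) ⟨b, hb⟩),
    fun a ha => ?_, h8⟩
  by_contra h4
  refine hcyc (isCyclic_of_orderOf_eq_card (⟨a, ha⟩ : A) ?_)
  rw [h8, Subgroup.orderOf_mk]
  refine orderOf_eq_prime_pow (p := 2) (n := 2) (by norm_num; exact h4) ?_
  have h := pow_card_eq_one' (x := (⟨a, ha⟩ : A))
  rw [h8] at h
  norm_num
  exact congrArg Subtype.val h

theorem abelian_of_na8 {H : Subgroup S} (h : NA8 H) :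
    ∃ A : Subgroup S, A ≤ H ∧ IsMulCommutative A ∧ ¬ IsCyclic A ∧ Nat.card A = 8 := by
  obtain ⟨A, h1, h2, h3, h4⟩ := h
  refine ⟨A, h1, ⟨⟨fun a b => Subtype.ext (h2 a a.2 b b.2)⟩⟩, fun hc => ?_, h4⟩
  obtain ⟨⟨g, hg⟩, hgen⟩ := hc.exists_generator
  have h5 := orderOf_eq_card_of_forall_mem_zpowers hgen
  rw [h4, Subgroup.orderOf_mk] at h5
  have := orderOf_dvd_of_pow_eq_one (h3 g hg)
  rw [h5] at this
  norm_num at this

theorem eq_one_of_pow_coprime {m n : ℕ} (h : n.Coprime m) {x : S}
    (h1 : x ^ n = 1) (h2 : x ^ m = 1) : x = 1 := by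
  have h3 := pow_gcd_eq_one.mpr ⟨h1, h2⟩
  rwa [h.gcd_eq_one, pow_one] at h3

theorem top_map_subtype (H : Subgroup S) : (⊤ : Subgroup H).map H.subtype = H := by
  rw [← MonoidHom.range_eq_map, range_subtype]

/-- A `2`-group acting on a normal Klein four-group or quaternion group `Q` with `C(Q) ≤ Q` has no
abelian subgroup of order eight and exponent four. -/
theorem not_na8_klein_or_quat {Q : Subgroup S} [Q.Normal]
    (hC : centralizer (Q : Set S) ≤ Q) (hQ : IsKlein Q ∨ IsQuat Q) (hnQ : ¬ NA8 Q)
    (X : Subgroup S) (hX : IsPGroup 2 X) (hQX : Q ≤ X) : ¬ NA8 X := by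
  classical
  rintro ⟨A, hAX, hAc, hA4, hA8⟩
  -- the central element of `X` in `Q`
  haveI : (Q.subgroupOf X).Normal := inferInstance
  haveI := Fact.mk Nat.prime_two
  -- two elements of `A` outside `Q` differ by an element of `Q`
  suffices key : ∀ a ∈ A, a ∉ Q → ∀ b ∈ A, b ∉ Q → a * b ∈ Q by
    obtain ⟨a, ha, haQ⟩ : ∃ a ∈ A, a ∉ Q := by
      by_contra h; push Not at h; exact hnQ ⟨A, h, hAc, hA4, hA8⟩
    set B := A ⊓ Q
    have hB : Nat.card B * 2 = Nat.card A := by
      have hidx : (B.subgroupOf A).index = 2 := by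
        refine index_eq_two_iff.mpr ⟨⟨a, ha⟩, fun b => ?_⟩
        show Xor ((b : S) * a ∈ B) ((b : S) ∈ B)
        by_cases hb : (b : S) ∈ Q
        · exact Or.inr ⟨⟨b.2, hb⟩, fun h => haQ (by simpa using mul_mem (inv_mem hb) h.2)⟩
        · exact Or.inl ⟨⟨mul_mem b.2 ha, key b b.2 hb a ha haQ⟩, fun h => hb h.2⟩
      rw [← (B.subgroupOf A).card_mul_index, hidx,
        Nat.card_congr (subgroupOfEquivOfLe inf_le_left).toEquiv]
    have hB4 : Nat.card B = 4 := by omega
    rcases hQ with hKl | hQu
    · have hBQ : B = Q := Subgroup.eq_of_le_of_card_ge inf_le_right (by rw [hB4, hKl.1])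
      exact haQ (hC (mem_centralizer_iff.mpr fun w hw => (hAc a ha w (hBQ.ge hw).1).symm))
    · obtain ⟨z, hz, i, hi, j, hj, hz1, hz2, -, -, -, hzc, huniq, hcom, hsq, hcen⟩ := hQu.props
      obtain ⟨w, hwB, hw1, hwz⟩ : ∃ w ∈ B, w ≠ 1 ∧ w ≠ z := by
        by_contra h; push Not at h
        have hle : B ≤ zpowers z := fun w hw => by
          by_cases h1 : w = 1
          · rw [h1]; exact one_mem _
          · rw [h w hw h1]; exact mem_zpowers z
        have := card_le_of_le hle
        rw [hB4, Nat.card_zpowers, orderOf_eq_prime hz2 hz1] at this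
        omega
      have ha2 : a ^ 2 ∈ Q := by rw [pow_two]; exact key a ha haQ a ha haQ
      -- `a ^ 2` is central in `Q`
      have ha2z : a ^ 2 = 1 ∨ a ^ 2 = z := by
        rcases hsq _ ha2 with h | h | h
        · exact Or.inl h
        · exact Or.inr h
        · exfalso
          rw [← pow_mul] at h
          exact hz1 (h ▸ hA4 a ha)
      have hw2 : w ^ 2 = z := ((hsq w hwB.2).resolve_left hw1).resolve_left hwz
      obtain ⟨v, hv, hvw⟩ : ∃ v ∈ Q, ¬ v * w = w * v := by
        by_contra h; push Not at h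
        rcases huniq w hwB.2 (fun x hx => (h x hx).symm) with h | h
        · exact hw1 h
        · exact hwz h
      set u := a * v * a⁻¹ with hu
      have huQ : u ∈ Q := (inferInstance : Q.Normal).conj_mem v hv a
      have haw : a * w * a⁻¹ = w := by rw [hAc a ha w hwB.1, mul_inv_cancel_right]
      have hzS : ∀ g : S, g * z * g⁻¹ = z := by
        intro g
        refine (huniq _ ((inferInstance : Q.Normal).conj_mem z hz g) fun x hx => ?_).resolve_left
          fun h => hz1 ?_
        · have hc := hzc _ ((inferInstance : Q.Normal).conj_mem' x hx g)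
          calc g * z * g⁻¹ * x = g * (z * (g⁻¹ * x * g)) * g⁻¹ := by group
            _ = g * ((g⁻¹ * x * g) * z) * g⁻¹ := by rw [hc]
            _ = x * (g * z * g⁻¹) := by group
        · rwa [mul_inv_eq_one, mul_eq_left] at h
      -- `u v⁻¹` centralizes `w`
      have hd : (u * v⁻¹) * w = w * (u * v⁻¹) := by
        have e1 : ⁅v, w⁆ = z :=
          (hcom v hv w hwB.2).resolve_left fun h => hvw (commutatorElement_eq_one_iff_mul_comm.mp h)
        have e2 : ⁅u, w⁆ = z := by
          have h := map_commutatorElement (MulAut.conj a) v w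
          rw [MulAut.conj_apply, MulAut.conj_apply, MulAut.conj_apply, e1, haw, hzS] at h
          exact h.symm
        have h1 : v⁻¹ * w * v = z * w := by
          have : v * w * v⁻¹ = z * w := by rw [← e1, commutatorElement_def]; group
          calc v⁻¹ * w * v = v⁻¹ * (z⁻¹ * (z * w)) * v := by group
            _ = (v⁻¹ * z⁻¹ * v) * (v⁻¹ * (v * w * v⁻¹) * v) := by rw [← this]; group
            _ = z * w := by
              rw [show v⁻¹ * z⁻¹ * v = z from by
                rw [show z⁻¹ = z from inv_eq_of_mul_eq_one_right (by rw [← pow_two, hz2]),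
                  mul_assoc, ← hzc v hv, inv_mul_cancel_left]]
              group
        have h2 : u * w * u⁻¹ = z * w := by rw [← e2, commutatorElement_def]; group
        have h3 : v⁻¹ * w = z * w * v⁻¹ := by rw [← h1]; group
        calc u * v⁻¹ * w = u * (z * w * v⁻¹) := by rw [mul_assoc, h3]
          _ = (u * z * u⁻¹) * (u * w * u⁻¹) * (u * v⁻¹) := by group
          _ = z * (z * w) * (u * v⁻¹) := by rw [hzS, h2]
          _ = w * (u * v⁻¹) := by rw [← mul_assoc z, ← pow_two, hz2, one_mul]
      obtain ⟨n, hn⟩ := mem_zpowers_iff.mp (hcen w hwB.2 hw1 hwz _ (mul_mem huQ (inv_mem hv)) hd)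
      have hun : u = w ^ n * v := by rw [hn, inv_mul_cancel_right]
      have h2v : a ^ 2 * v * (a ^ 2)⁻¹ = v := by
        rcases ha2z with h | h <;> rw [h]
        · group
        · rw [← hzc v hv, mul_inv_cancel_right]
      have hnn : w ^ (2 * n) = 1 := by
        have e : a ^ 2 * v * (a ^ 2)⁻¹ = w ^ (2 * n) * v := by
          calc a ^ 2 * v * (a ^ 2)⁻¹ = a * u * a⁻¹ := by rw [hu, pow_two]; group
            _ = (a * w * a⁻¹) ^ n * u := by rw [conj_zpow]; conv_lhs => rw [hun]
                                            rw [hu]; group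
            _ = w ^ (2 * n) * v := by rw [haw, hun, ← mul_assoc, ← zpow_add, two_mul]
        rw [h2v] at e
        exact mul_eq_right.mp e.symm
      have hnN : w ^ n = 1 ∨ w ^ n = z := by
        rcases Int.even_or_odd' n with ⟨l, rfl | rfl⟩
        · rw [zpow_mul, zpow_ofNat, hw2]
          rcases Int.even_or_odd' l with ⟨m, rfl | rfl⟩
          · exact Or.inl (by rw [zpow_mul, zpow_ofNat, hz2, one_zpow])
          · exact Or.inr (by rw [zpow_add_one, zpow_mul, zpow_ofNat, hz2, one_zpow, one_mul])
        · exfalso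
          rw [zpow_mul, zpow_ofNat, hw2, zpow_add_one, zpow_mul, zpow_ofNat, hz2, one_zpow,
            one_mul] at hnn
          exact hz1 hnn
      -- an element of `Q` acting as `a` does
      set m := if u = v then (1 : S) else w with hm
      have hmQ : m ∈ Q := by rw [hm]; split_ifs; exacts [one_mem _, hwB.2]
      have hamw : (a * m) * w = w * (a * m) := by
        have h1 : m * w = w * m := by rw [hm]; split_ifs <;> simp
        rw [mul_assoc, h1, ← mul_assoc, hAc a ha w hwB.1, mul_assoc]
      have hamv : (a * m) * v = v * (a * m) := by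
        rw [hm]
        split_ifs with huv
        · rw [mul_one]
          calc a * v = u * a := by rw [hu]; group
            _ = v * a := by rw [huv]
        · have hn1 : w ^ n = z := hnN.resolve_left fun h => huv (by rw [hun, h, one_mul])
          have e1 : ⁅w, v⁆ = z := (hcom w hwB.2 v hv).resolve_left fun h =>
            hvw (commutatorElement_eq_one_iff_mul_comm.mp h).symm
          have e2 : w * v = z * (v * w) := by rw [← e1, commutatorElement_def]; group
          calc a * w * v = a * (w * v) := mul_assoc _ _ _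
            _ = a * (z * (v * w)) := by rw [e2]
            _ = (a * z * a⁻¹) * (a * v * a⁻¹) * (a * w) := by group
            _ = z * (z * v) * (a * w) := by rw [hzS, ← hu, hun, hn1]
            _ = v * (a * w) := by rw [← mul_assoc z, ← pow_two, hz2, one_mul]
      have hgen : ∀ x ∈ Q, (a * m) * x = x * (a * m) := by
        set D := Q ⊓ centralizer ({a * m} : Set S)
        have hwD : w ∈ D := ⟨hwB.2, mem_centralizer_singleton_iff.mpr hamw.symm⟩
        have hvD : v ∈ D := ⟨hv, mem_centralizer_singleton_iff.mpr hamv.symm⟩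
        have hlt : zpowers w < D := lt_of_le_of_ne (zpowers_le.mpr hwD) fun h => hvw (by
          obtain ⟨l, hl⟩ := mem_zpowers_iff.mp (h.ge hvD)
          rw [← hl]; exact ((Commute.refl w).zpow_left l).eq)
        have hD : D = Q := by
          refine Subgroup.eq_of_le_of_card_ge inf_le_left ?_
          have h4 : Nat.card (zpowers w) = 4 := by
            rw [Nat.card_zpowers]
            refine orderOf_eq_prime_pow (p := 2) (n := 1) ?_ ?_
            · rw [pow_one, hw2]; exact hz1
            · rw [show (2 : ℕ) ^ (1 + 1) = 2 * 2 by norm_num, pow_mul, hw2, hz2]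
          have h5 : 4 < Nat.card D := h4 ▸ lt_of_le_of_ne (card_le_of_le hlt.le)
            (fun h => hlt.ne (Subgroup.eq_of_le_of_card_ge hlt.le h.ge))
          have h6 : Nat.card D ∣ 8 := hQu.1 ▸ card_dvd_of_le inf_le_left
          obtain ⟨e, he, he'⟩ := (Nat.dvd_prime_pow Nat.prime_two).mp (show Nat.card D ∣ 2 ^ 3 by simpa using h6)
          rw [hQu.1, he']
          rw [he', show (4 : ℕ) = 2 ^ 2 by norm_num] at h5
          rw [show (8 : ℕ) = 2 ^ 3 by norm_num]
          exact Nat.pow_le_pow_right (by norm_num) ((Nat.pow_lt_pow_iff_right (by norm_num)).mp h5)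
        intro x hx
        exact (mem_centralizer_singleton_iff.mp (hD.ge hx).2).symm
      refine haQ ?_
      have h := hC (mem_centralizer_iff.mpr fun x hx => (hgen x hx).symm)
      simpa using mul_mem h (inv_mem hmQ)
  intro a ha haQ b hb hbQ
  -- `X` fixes some `w ∈ Q` modulo the part it must
  rcases hQ with hKl | hQu
  · obtain ⟨z, hz, hz1, hzX⟩ : ∃ z ∈ Q, z ≠ 1 ∧ ∀ g ∈ X, g * z = z * g := by
      have hne : Q.subgroupOf X ≠ ⊥ := fun h => by
        have h1 := Nat.card_congr (subgroupOfEquivOfLe hQX).toEquiv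
        rw [h, card_bot, hKl.1] at h1
        norm_num at h1
      obtain ⟨⟨⟨z, hzX⟩, hzQ, hzc⟩, hz1⟩ :=
        (Subgroup.ne_bot_iff_exists_ne_one.mp (PGroup.inf_center_ne_bot hX hne))
      exact ⟨z, hzQ, fun h => hz1 (Subtype.ext (Subtype.ext h)), fun g hg =>
        congrArg Subtype.val (mem_center_iff.mp hzc ⟨g, hg⟩)⟩
    have hZQ : zpowers z ≤ Q := zpowers_le.mpr hz
    have hzc2 : Nat.card Q = Nat.card (zpowers z) * 2 := by
      rw [hKl.1, Nat.card_zpowers, orderOf_eq_prime (hKl.2.1 z hz) hz1]
    -- elements of `A` outside `Q` move every `u ∉ ⟨z⟩` to `u z`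
    have hmov : ∀ g ∈ A, g ∉ Q → ∀ u ∈ Q, u ∉ zpowers z → g * u * g⁻¹ = u * z := by
      intro g hg hgQ u hu huz
      have hgu : g * u * g⁻¹ ∉ zpowers z := fun h => huz (by
        obtain ⟨l, hl⟩ := mem_zpowers_iff.mp h
        refine mem_zpowers_iff.mpr ⟨l, ?_⟩
        calc z ^ l = g⁻¹ * (g * z ^ l) := by group
          _ = g⁻¹ * (z ^ l * g) := by rw [((show Commute g z from hzX g (hAX hg)).zpow_right l).eq]
          _ = u := by rw [hl]; group)
      have hd := inv_mul_mem_of_card_double hZQ hzc2 hu ((inferInstance : Q.Normal).conj_mem u hu g)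
        huz hgu
      obtain ⟨l, hl⟩ := mem_zpowers_iff.mp hd
      rcases Int.even_or_odd' l with ⟨m, rfl | rfl⟩
      · exfalso
        rw [zpow_mul, zpow_ofNat, hKl.2.1 z hz, one_zpow, eq_inv_mul_iff_mul_eq, mul_one] at hl
        refine hgQ (hC (mem_centralizer_iff.mpr fun x hx => ?_))
        by_cases hxz : x ∈ zpowers z
        · obtain ⟨k, rfl⟩ := mem_zpowers_iff.mp hxz
          exact ((show Commute g z from hzX g (hAX hg)).zpow_right k).eq.symm
        · obtain ⟨k, hk⟩ := mem_zpowers_iff.mp (inv_mul_mem_of_card_double hZQ hzc2 hu hx huz hxz)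
          rw [eq_inv_mul_iff_mul_eq] at hk
          rw [← hk]
          have h1 : Commute g u := (mul_inv_eq_iff_eq_mul.mp hl.symm)
          exact (h1.mul_right ((show Commute g z from hzX g (hAX hg)).zpow_right k)).eq.symm
      · rw [zpow_add_one, zpow_mul, zpow_ofNat, hKl.2.1 z hz, one_zpow, one_mul,
          eq_inv_mul_iff_mul_eq] at hl
        exact hl.symm
    refine hC (mem_centralizer_iff.mpr fun x hx => ?_)
    have hzz : a * z = z * a := hzX a (hAX ha)
    by_cases hxz : x ∈ zpowers z
    · obtain ⟨k, rfl⟩ := mem_zpowers_iff.mp hxz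
      exact (((show Commute a z from hzz).mul_left (hzX b (hAX hb))).zpow_right k).eq.symm
    · have h1 : (a * b) * x * (a * b)⁻¹ = x := by
        calc (a * b) * x * (a * b)⁻¹ = a * (b * x * b⁻¹) * a⁻¹ := by group
          _ = (a * x * a⁻¹) * (a * z * a⁻¹) := by rw [hmov b hb hbQ x hx hxz]; group
          _ = x := by
            rw [hmov a ha haQ x hx hxz, hzz, mul_inv_cancel_right, mul_assoc, ← pow_two,
              hKl.2.1 z hz, mul_one]
      exact (mul_inv_eq_iff_eq_mul.mp h1).symm
  · obtain ⟨z, hz, i, hi, j, hj, hz1, hz2, -, -, hzij, hzc, huniq, hcom, hsq, hcen⟩ := hQu.props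
    have hzS : ∀ g : S, g * z * g⁻¹ = z := by
      intro g
      refine (huniq _ ((inferInstance : Q.Normal).conj_mem z hz g) fun x hx => ?_).resolve_left
        fun h => hz1 ?_
      · have hc := hzc _ ((inferInstance : Q.Normal).conj_mem' x hx g)
        calc g * z * g⁻¹ * x = g * (z * (g⁻¹ * x * g)) * g⁻¹ := by group
          _ = g * ((g⁻¹ * x * g) * z) * g⁻¹ := by rw [hc]
          _ = x * (g * z * g⁻¹) := by group
      · rwa [mul_inv_eq_one, mul_eq_left] at h
    set N := zpowers z
    have hN : N.Normal := ⟨fun x hx g => by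
      obtain ⟨k, rfl⟩ := mem_zpowers_iff.mp hx
      rw [← conj_zpow, hzS]; exact zpow_mem (mem_zpowers z) k⟩
    have hNQ : N ≤ Q := zpowers_le.mpr hz
    have hNc : Nat.card N = 2 := by rw [Nat.card_zpowers, orderOf_eq_prime hz2 hz1]
    set π := QuotientGroup.mk' N
    -- the quotient `Q / N` is a Klein four-group
    have hQb : IsKlein (Q.map π) := by
      refine ⟨?_, ?_, ?_⟩
      · have h := Thompson.card_comap_quotient N (Q.map π)
        rw [comap_map_eq, QuotientGroup.ker_mk', sup_eq_left.mpr hNQ, hQu.1, hNc] at h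
        omega
      · rintro _ ⟨x, hx, rfl⟩
        rw [← map_pow]
        refine (QuotientGroup.eq_one_iff _).mpr ?_
        rcases hsq x hx with rfl | rfl | h
        · rw [one_pow]; exact one_mem _
        · exact pow_mem (mem_zpowers x) 2
        · rw [h]; exact mem_zpowers z
      · rintro _ ⟨x, hx, rfl⟩ _ ⟨y, hy, rfl⟩
        rw [← commutatorElement_eq_one_iff_mul_comm, ← map_commutatorElement]
        refine (QuotientGroup.eq_one_iff _).mpr ?_
        rcases hcom x hx y hy with h | h <;> rw [h]
        exacts [one_mem _, mem_zpowers z]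
    have hXb : IsPGroup 2 (X.map π) := hX.map π
    obtain ⟨w, hw, hwN, hwX⟩ : ∃ w ∈ Q, w ∉ N ∧ ∀ g ∈ X, ⁅g, w⁆ ∈ N := by
      haveI : ((Q.map π).subgroupOf (X.map π)).Normal :=
        Normal.subgroupOf ((inferInstance : Q.Normal).map π (QuotientGroup.mk'_surjective N)) _
      have hne : (Q.map π).subgroupOf (X.map π) ≠ ⊥ := fun h => by
        have h1 := Nat.card_congr (subgroupOfEquivOfLe (map_mono (f := π) hQX)).toEquiv
        rw [h, card_bot, hQb.1] at h1
        norm_num at h1
      obtain ⟨⟨⟨wb, hwX⟩, hwQ, hwc⟩, hw1⟩ :=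
        (Subgroup.ne_bot_iff_exists_ne_one.mp (PGroup.inf_center_ne_bot hXb hne))
      obtain ⟨w, hw, hwe⟩ := hwQ
      refine ⟨w, hw, fun h => hw1 (Subtype.ext (Subtype.ext
          (hwe.symm.trans ((QuotientGroup.eq_one_iff w).mpr h)))),
        fun g hg => (QuotientGroup.eq_one_iff _).mp ?_⟩
      show π ⁅g, w⁆ = 1
      rw [map_commutatorElement, commutatorElement_eq_one_iff_mul_comm]
      have h := congrArg Subtype.val (mem_center_iff.mp hwc ⟨π g, mem_map_of_mem π hg⟩)
      have e : π w = wb := hwe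
      rw [e]
      simpa using h
    have hw1 : w ≠ 1 := fun h => hwN (h ▸ one_mem _)
    have hwz : w ≠ z := fun h => hwN (h ▸ mem_zpowers z)
    have hw2 : w ^ 2 = z := ((hsq w hw).resolve_left hw1).resolve_left hwz
    have hW : zpowers w ≤ Q := zpowers_le.mpr hw
    have hWc : Nat.card Q = Nat.card (zpowers w) * 2 := by
      rw [hQu.1, Nat.card_zpowers]
      have : orderOf w = 4 := by
        refine (orderOf_eq_prime_pow (p := 2) (n := 1) ?_ ?_).trans (by norm_num)
        · rw [pow_one, hw2]; exact hz1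
        · rw [show (2 : ℕ) ^ (1 + 1) = 2 * 2 by norm_num, pow_mul, hw2, hz2]
      rw [this]
    have hNW : N ≤ zpowers w := zpowers_le.mpr (hw2 ▸ pow_mem (mem_zpowers w) 2)
    -- an element fixing all cosets modulo `N` lies in `Q`
    have hinner : ∀ g : S, (∀ x ∈ Q, ⁅g, x⁆ ∈ N) → g ∈ Q := by
      intro g hg
      have hu : ∀ x ∈ Q, g * x * g⁻¹ = x ∨ g * x * g⁻¹ = z * x := fun x hx => by
        obtain ⟨l, hl⟩ := mem_zpowers_iff.mp (hg x hx)
        rcases Int.even_or_odd' l with ⟨m, rfl | rfl⟩
        · rw [zpow_mul, zpow_ofNat, hz2, one_zpow] at hl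
          exact Or.inl (mul_inv_eq_one.mp hl.symm)
        · rw [zpow_add_one, zpow_mul, zpow_ofNat, hz2, one_zpow, one_mul] at hl
          exact Or.inr (by rw [hl, commutatorElement_def, inv_mul_cancel_right])
      have cij : i * j * i⁻¹ = z * j := by rw [← hzij, commutatorElement_def]; group
      have cji : j * i * j⁻¹ = z * i := by
        have h : ⁅j, i⁆ = z := by
          rcases hcom j hj i hi with h | h
          · exfalso
            have h2 := commutatorElement_eq_one_iff_mul_comm.mp h
            exact hz1 (hzij ▸ commutatorElement_eq_one_iff_mul_comm.mpr h2.symm)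
          · exact h
        rw [← h, commutatorElement_def]; group
      have hzz : z * z = 1 := by rw [← pow_two, hz2]
      have hconj : ∀ m x e : S, (e = 1 ∨ e = z) → m * x * m⁻¹ = e * x → ∀ u : S,
          g * x * g⁻¹ = u * x → e * u = 1 → Commute (g * m) x := by
        intro m x e he hmx u hgx heu
        have h1 : g * e * g⁻¹ = e := by rcases he with rfl | rfl <;> simp [hzS]
        show g * m * x = x * (g * m)
        calc g * m * x = g * (m * x * m⁻¹) * m := by group
          _ = (g * e * g⁻¹) * (g * x * g⁻¹) * (g * m) := by rw [hmx]; group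
          _ = x * (g * m) := by rw [h1, hgx, ← mul_assoc, ← mul_assoc, heu, one_mul, mul_assoc]
      suffices h : ∃ m ∈ Q, Commute (g * m) i ∧ Commute (g * m) j by
        obtain ⟨m, hm, h1, h2⟩ := h
        set D := Q ⊓ centralizer ({g * m} : Set S)
        have hiD : i ∈ D := ⟨hi, mem_centralizer_singleton_iff.mpr h1.eq.symm⟩
        have hjD : j ∈ D := ⟨hj, mem_centralizer_singleton_iff.mpr h2.eq.symm⟩
        have hi1 : i ≠ 1 := fun h => hz1 (by rw [← hzij, h, commutatorElement_one_left])
        have hiz : i ≠ z := fun h => hz1 (by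
          rw [← hzij, h, commutatorElement_eq_one_iff_mul_comm.mpr (hzc j hj).symm])
        have hDc : ∀ x ∈ Q, x ∈ zpowers i ⊔ zpowers j := by
          intro x hx
          rcases hcom x hx i hi with h | h
          · exact mem_sup_left (hcen i hi hi1 hiz x hx (commutatorElement_eq_one_iff_mul_comm.mp h))
          · have h3 : ⁅x * j, i⁆ = 1 := by
              rw [commutatorElement_mul_left_eq_conj_mul, h, show ⁅j, i⁆ = z by
                rw [commutatorElement_def, cji]; group, show x * z * x⁻¹ = z from hzS x, hzz]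
            have h4 := hcen i hi hi1 hiz _ (mul_mem hx hj) (commutatorElement_eq_one_iff_mul_comm.mp h3)
            rw [show x = x * j * j⁻¹ by group]
            exact mul_mem (mem_sup_left h4) (mem_sup_right (inv_mem (mem_zpowers j)))
        have hgm : g * m ∈ Q := hC (mem_centralizer_iff.mpr fun x hx =>
          mem_centralizer_singleton_iff.mp ((sup_le (zpowers_le.mpr hiD.2) (zpowers_le.mpr hjD.2) :
            zpowers i ⊔ zpowers j ≤ centralizer ({g * m} : Set S)) (hDc x hx)))
        simpa using mul_mem hgm (inv_mem hm)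
      rcases hu i hi with h1 | h1 <;> rcases hu j hj with h2 | h2
      · exact ⟨1, one_mem _, hconj 1 i 1 (Or.inl rfl) (by simp) 1 (by simpa using h1) (by simp),
          hconj 1 j 1 (Or.inl rfl) (by simp) 1 (by simpa using h2) (by simp)⟩
      · exact ⟨i, hi, hconj i i 1 (Or.inl rfl) (by simp) 1 (by simpa using h1) (by simp),
          hconj i j z (Or.inr rfl) cij z h2 hzz⟩
      · exact ⟨j, hj, hconj j i z (Or.inr rfl) cji z h1 hzz,
          hconj j j 1 (Or.inl rfl) (by simp) 1 (by simpa using h2) (by simp)⟩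
      · refine ⟨i * j, mul_mem hi hj, hconj _ i z (Or.inr rfl) ?_ z h1 hzz,
          hconj _ j z (Or.inr rfl) ?_ z h2 hzz⟩
        · calc (i * j) * i * (i * j)⁻¹ = i * (j * i * j⁻¹) * i⁻¹ := by group
            _ = (i * z * i⁻¹) * i := by rw [cji]; group
            _ = z * i := by rw [hzS]
        · rw [← cij]; group
    refine hinner _ fun x hx => ?_
    -- in `S / N` both factors act on `Q / N` as the same transvection
    have hfix : ∀ g ∈ X, ∀ y ∈ zpowers w, ⁅g, y⁆ ∈ N := by
      intro g hg y hy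
      haveI := hN
      refine (QuotientGroup.eq_one_iff _).mp ?_
      obtain ⟨k, rfl⟩ := mem_zpowers_iff.mp hy
      show π ⁅g, w ^ k⁆ = 1
      have h : Commute (π g) (π w) := by
        refine commutatorElement_eq_one_iff_mul_comm.mp ?_
        rw [← map_commutatorElement]
        exact (QuotientGroup.eq_one_iff _).mpr (hwX g hg)
      rw [map_commutatorElement, map_zpow]
      exact commutatorElement_eq_one_iff_mul_comm.mpr (h.zpow_right k).eq
    by_cases hxW : x ∈ zpowers w
    · exact hfix _ (mul_mem (hAX ha) (hAX hb)) x hxW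
    haveI := hN
    -- each factor moves `x` into `x w N`
    have hmov : ∀ g ∈ A, g ∉ Q → π (g * x * g⁻¹) = π (x * w) := by
      intro g hg hgQ
      have hgxW : g * x * g⁻¹ ∉ zpowers w := fun h => hxW (by
        have h2 := hfix g⁻¹ (inv_mem (hAX hg)) _ h
        have h3 : g⁻¹ * (g * x * g⁻¹) * g⁻¹⁻¹ * (g * x * g⁻¹)⁻¹ ∈ zpowers w := hNW h2
        have h4 := mul_mem h3 h
        simpa [mul_assoc] using h4)
      have hd := inv_mul_mem_of_card_double hW hWc hx ((inferInstance : Q.Normal).conj_mem x hx g)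
        hxW hgxW
      obtain ⟨k, hk⟩ := mem_zpowers_iff.mp hd
      rcases Int.even_or_odd' k with ⟨l, rfl | rfl⟩
      · exfalso
        have h5 : w ^ (2 * l) ∈ N := by rw [zpow_mul, zpow_ofNat, hw2]; exact zpow_mem (mem_zpowers z) l
        rw [hk] at h5
        have hgx : Commute (π g) (π x) := by
          have h6 := (QuotientGroup.eq (s := N)).mpr h5
          have h7 : π g * π x * (π g)⁻¹ = π x := by
            rw [← map_inv, ← map_mul, ← map_mul]; exact h6.symm
          exact mul_inv_eq_iff_eq_mul.mp h7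
        refine hgQ (hinner g fun y hy => ?_)
        by_cases hyW : y ∈ zpowers w
        · exact hfix g (hAX hg) y hyW
        · obtain ⟨m, hm⟩ := mem_zpowers_iff.mp (inv_mul_mem_of_card_double hW hWc hx hy hxW hyW)
          refine (QuotientGroup.eq_one_iff _).mp ?_
          show π ⁅g, y⁆ = 1
          rw [eq_inv_mul_iff_mul_eq] at hm
          rw [map_commutatorElement, commutatorElement_eq_one_iff_mul_comm, ← hm, map_mul, map_zpow]
          have hgw : Commute (π g) (π w) := by
            refine commutatorElement_eq_one_iff_mul_comm.mp ?_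
            rw [← map_commutatorElement]
            exact (QuotientGroup.eq_one_iff _).mpr (hwX g (hAX hg))
          exact (hgx.mul_right (hgw.zpow_right m)).eq
      · rw [eq_inv_mul_iff_mul_eq] at hk
        rw [← hk, map_mul, map_mul, zpow_add_one, map_mul,
          show π (w ^ (2 * l)) = 1 from (QuotientGroup.eq_one_iff _).mpr (by
            rw [zpow_mul, zpow_ofNat, hw2]; exact zpow_mem (mem_zpowers z) l), one_mul]
    refine (QuotientGroup.eq_one_iff _).mp ?_
    show π ⁅a * b, x⁆ = 1
    have haw : π a * π w * (π a)⁻¹ = π w := by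
      refine mul_inv_eq_iff_eq_mul.mpr (commutatorElement_eq_one_iff_mul_comm.mp ?_)
      rw [← map_commutatorElement]
      exact (QuotientGroup.eq_one_iff _).mpr (hwX a (hAX ha))
    have hw2' : π w * π w = 1 := by
      rw [← map_mul, ← pow_two, hw2]; exact (QuotientGroup.eq_one_iff _).mpr (mem_zpowers z)
    have e : π ((a * b) * x * (a * b)⁻¹) = π x := by
      calc π ((a * b) * x * (a * b)⁻¹) = π a * π (b * x * b⁻¹) * (π a)⁻¹ := by
            simp only [map_mul, map_inv]; group
        _ = π (a * x * a⁻¹) * (π a * π w * (π a)⁻¹) := by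
            rw [hmov b hb hbQ]; simp only [map_mul, map_inv]; group
        _ = π x := by
            rw [haw, hmov a ha haQ, map_mul, mul_assoc, hw2', mul_one]
    rw [commutatorElement_def, map_mul, e, map_inv, mul_inv_cancel]

/-- The group-level theorem. -/
theorem main [Group.IsSolvable S] (hO : Cfsg.pPrimeCore 2 S = ⊥)
    (h8 : ∃ A : Subgroup S, IsMulCommutative A ∧ ¬ IsCyclic A ∧ Nat.card A = 8)
    (hmin : ∀ R : Subgroup S, R ≠ ⊤ → (∃ k : ℕ, R.index = 2 ^ k) →
      ¬ ∃ A : Subgroup S, A ≤ R ∧ IsMulCommutative A ∧ ¬ IsCyclic A ∧ Nat.card A = 8)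
    (X : Sylow 2 S) : (X : Subgroup S).Normal ∧ Conclusion (X : Subgroup S) := by
  haveI : Fact (Nat.Prime 2) := ⟨Nat.prime_two⟩
  have hmin' : ∀ R : Subgroup S, R ≠ ⊤ → (∃ k : ℕ, R.index = 2 ^ k) → ¬ NA8 R := fun R h1 h2 h =>
    hmin R h1 h2 (abelian_of_na8 h)
  set Q := Cfsg.pCore 2 S
  have hQp : IsPGroup 2 Q := Thompson.isPGroup_pCore
  have hC : centralizer (Q : Set S) ≤ Q :=
    Thompson.centralizer_pCore_le (OddLocal44.isPSolvable_of_isSolvable (p := 2)) hO
  obtain ⟨e, m, hm, hcard⟩ := Nat.exists_eq_pow_mul_and_not_dvd (Nat.card_pos (α := S)).ne' 2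
    (by norm_num)
  have hmodd : Odd m := Nat.odd_iff.mpr (by omega)
  obtain ⟨K, hKc⟩ := Solvable.exists_hall (G := S) (m := m) (n := 2 ^ e)
    (by rw [hcard, mul_comm]) ((Nat.Coprime.pow_right e hmodd.coprime_two_right))
  have hKi : K.index = 2 ^ e := by
    have h := K.card_mul_index
    rw [hKc, hcard, mul_comm (2 ^ e)] at h
    exact Nat.eq_of_mul_eq_mul_left (by omega) h
  let φ : K →* MulAut Q := (MulAut.conjNormal : S →* MulAut Q).comp K.subtype
  have hKodd : Odd (Nat.card K) := hKc ▸ hmodd
  have hpow : ∀ R : Subgroup S, K ≤ R → ∃ k, R.index = 2 ^ k := fun R hR => by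
    obtain ⟨k, -, hk⟩ := (Nat.dvd_prime_pow Nat.prime_two).mp (hKi ▸ index_dvd_of_le hR)
    exact ⟨k, hk⟩
  obtain ⟨A, hAc, hAcyc, hA8⟩ := h8
  have hAN : NA8 A := na8_of_abelian le_rfl hAc hAcyc hA8
  obtain ⟨X₁, hAX₁⟩ := (IsPGroup.of_card (n := 3) (hA8.trans (by norm_num)) : IsPGroup 2 A).exists_le_sylow
  by_cases hQN : NA8 Q
  · have hR : Q ⊔ K = ⊤ := by
      by_contra h
      exact hmin' _ h (hpow _ le_sup_right) (hQN.mono le_sup_left)
    have hXQ : (X : Subgroup S) = Q := by
      refine le_antisymm ?_ (Thompson.pCore_le_sylow X)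
      refine (Subgroup.eq_of_le_of_card_ge (Thompson.pCore_le_sylow X) ?_).ge
      have h1 : Nat.card S ≤ Nat.card Q * Nat.card K := by
        have h2 := Thompson.card_sup_mul_card_inf (H := Q) (K := K) (le_top.trans_eq (normalizer_eq_top Q).symm)
        rw [hR, card_top] at h2
        exact (Nat.le_mul_of_pos_right _ Nat.card_pos).trans h2.le
      rw [hKc] at h1
      obtain ⟨x, hx⟩ := X.isPGroup'.exists_card_eq
      have h3 : 2 ^ x ∣ 2 ^ e * m := hx ▸ hcard ▸ card_subgroup_dvd_card _
      have h4 : 2 ^ x ∣ 2 ^ e := (Nat.Coprime.pow_left x hmodd.coprime_two_left).dvd_of_dvd_mul_right h3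
      rw [hcard] at h1
      rw [hx]
      exact (Nat.le_of_dvd (by positivity) h4).trans (Nat.le_of_mul_le_mul_right h1 (by omega))
    refine ⟨hXQ ▸ inferInstance, ?_⟩
    rw [hXQ]
    refine structure_of_minimal φ hQp hKodd (na8_comap Q.subtype Q.subtype_injective
      ((top_map_subtype Q).symm ▸ hQN)) fun R hR hinv hNR => ?_
    set R' := R.map Q.subtype
    have hKR : K ≤ normalizer (R' : Set S) := Coprime.le_normalizer_of_conj_mem fun k hk x hx => by
      obtain ⟨r, hr, rfl⟩ := hx
      exact ⟨φ ⟨k, hk⟩ r, hinv ⟨k, hk⟩ r hr, MulAut.conjNormal_apply _ _⟩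
    have hne : R' ⊔ K ≠ ⊤ := by
      intro h
      refine hR (eq_top_iff.mpr fun q _ => ?_)
      obtain ⟨r, hr, k, hk, hrk⟩ := Coprime.exists_mul_of_mem_sup hKR (h ▸ mem_top (q : S))
      have hkQ : k ∈ Q := by
        rw [show k = r⁻¹ * q by rw [hrk, inv_mul_cancel_left]]
        exact mul_mem (inv_mem (map_subtype_le _ hr)) q.2
      have hk1 : k = 1 := by
        obtain ⟨n, hn⟩ := hQp ⟨k, hkQ⟩
        have h5 : k ^ Nat.card K = 1 := congrArg Subtype.val (pow_card_eq_one' (x := (⟨k, hk⟩ : K)))
        exact eq_one_of_pow_coprime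
          (Nat.Coprime.pow_left n hKodd.coprime_two_left) (congrArg Subtype.val hn) h5
      rw [hk1, mul_one] at hrk
      obtain ⟨r', hr', hrr⟩ := hr
      rwa [show q = r' from Subtype.ext (hrk.trans hrr.symm)]
    exact hmin' _ hne (hpow _ le_sup_right) ((na8_map Q.subtype Q.subtype_injective hNR).mono le_sup_left)
  exfalso
  have hQX : Q ≤ (X₁ : Subgroup S) := Thompson.pCore_le_sylow X₁
  have hnoQ : ¬ NA8 (⊤ : Subgroup Q) := fun h => hQN (top_map_subtype Q ▸ na8_map Q.subtype Q.subtype_injective h)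
  have hmne : moved φ ≠ ⊥ := by
    intro hb
    have hK1 : ∀ k : K, (k : S) = 1 := fun k => by
      have hkC : (k : S) ∈ centralizer (Q : Set S) := mem_centralizer_iff.mpr fun q hq => by
        have h := mem_moved φ k ⟨q, hq⟩
        rw [hb, mem_bot, inv_mul_eq_one] at h
        have h' : q = (k : S) * q * (k : S)⁻¹ := (congrArg Subtype.val h).trans (MulAut.conjNormal_apply _ _)
        nth_rewrite 2 [h'] at *
        exact (eq_mul_inv_iff_mul_eq.mp h').symm ▸ rfl
      obtain ⟨n, hn⟩ := hQp ⟨_, hC hkC⟩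
      exact eq_one_of_pow_coprime (Nat.Coprime.pow_left n hKodd.coprime_two_left)
        (congrArg Subtype.val hn) (congrArg Subtype.val (pow_card_eq_one' (x := k)))
    have hK : K = ⊥ := (eq_bot_iff_forall K).mpr fun k hk => hK1 ⟨k, hk⟩
    have hm1 : m = 1 := by rw [← hKc, hK, card_bot]
    have hS : IsPGroup 2 (⊤ : Subgroup S) := IsPGroup.of_card (n := e) (by rw [card_top, hcard, hm1, mul_one])
    exact hQN (hAN.mono (le_top.trans (Thompson.le_pCore inferInstance hS)))
  set M := moved φ
  have hMi : Inv φ M := inv_of_moved_le φ le_rfl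
  haveI : Nontrivial M := (nontrivial_iff_ne_bot M).mpr hmne
  have hmvM := moved_restr_moved φ hQp hKodd
  have hnoM : ¬ NA8 (⊤ : Subgroup M) := fun h =>
    hnoQ (((top_map_subtype M) ▸ na8_map M.subtype M.subtype_injective h : NA8 M).mono le_top)
  have hKQ : IsKlein Q ∨ IsQuat Q := by
    rcases core_aux hQp hKodd _ M le_rfl (restr φ M hMi) (hQp.to_subgroup M) hnoM hmvM inferInstance
      with h | h
    · have hKl : IsKlein M := top_map_subtype M ▸ h.map M.subtype M.subtype_injective
      by_cases hMt : M = ⊤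
      · exact Or.inl (top_map_subtype Q ▸ (hMt ▸ hKl).map Q.subtype Q.subtype_injective)
      · exact absurd (na8_of_klein hQp hKl (lt_top_iff_ne_top.mpr hMt) fun x hx f _ =>
          ((mem_center_iff.mp (klein_central φ hQp hKodd hMi hKl hmvM hx)) f).symm) hnoQ
    · have hQu : IsQuat M := top_map_subtype M ▸ h.map M.subtype M.subtype_injective
      by_cases hMt : M = ⊤
      · exact Or.inr (top_map_subtype Q ▸ (hMt ▸ hQu).map Q.subtype Q.subtype_injective)
      · obtain ⟨c, -, -, -, hc⟩ := (quat_over φ hQp hKodd hMi hQu hmvM).2 hMt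
        exact absurd (hc.mono le_top) hnoQ
  exact not_na8_klein_or_quat hC hKQ hQN X₁ X₁.isPGroup' hQX (hAN.mono hAX₁)

end Cfsg.Agent.NoncycEight
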