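import Cfsg.Agent.NoncycEight.Structure

/-!
Elementary facts on a quaternion group of order eight given by its elements.
-/

set_option autoImplicit false
set_option linter.unusedSectionVars false

namespace Cfsg.Agent.NoncycEight

open Subgroup
open scoped commutatorElement

variable {Y : Type*} [Group Y] [Finite Y]

/-- The element-wise consequences. -/
theorem IsQuat.props {M : Subgroup Y} (hM : IsQuat M) :
    ∃ z ∈ M, ∃ i ∈ M, ∃ j ∈ M, z ≠ 1 ∧ z ^ 2 = 1 ∧ i ^ 2 = z ∧ j ^ 2 = z ∧ ⁅i, j⁆ = z ∧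
      (∀ m ∈ M, m * z = z * m) ∧
      (∀ m ∈ M, (∀ x ∈ M, m * x = x * m) → m = 1 ∨ m = z) ∧
      (∀ a ∈ M, ∀ b ∈ M, ⁅a, b⁆ = 1 ∨ ⁅a, b⁆ = z) ∧
      (∀ x ∈ M, x = 1 ∨ x = z ∨ x ^ 2 = z) ∧
      ∀ w ∈ M, w ≠ 1 → w ≠ z → ∀ x ∈ M, x * w = w * x → x ∈ zpowers w := by
  obtain ⟨h8, z, hz, i, hi, j, hj, hz1, hz2, hi2, hj2, hij, hzc, huniq, hcom⟩ := hM
  have hzij : ⁅i, j⁆ = z :=
    (hcom i hi j hj).resolve_left fun h => hij (commutatorElement_eq_one_iff_mul_comm.mp h)
  have h4 : ∀ w : Y, w ^ 2 = z → Nat.card (zpowers w) = 4 := fun w hw => by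
    rw [Nat.card_zpowers]
    refine orderOf_eq_prime_pow (p := 2) (n := 1) ?_ ?_
    · rw [pow_one, hw]; exact hz1
    · rw [show (2 : ℕ) ^ (1 + 1) = 2 * 2 by norm_num, pow_mul, hw, hz2]
  have hcen : ∀ w ∈ M, w ≠ 1 → w ≠ z → w ^ 2 = z → ∀ x ∈ M, x * w = w * x → x ∈ zpowers w := by
    intro w hw hw1 hwz hw2 x hx hxw
    set D := M ⊓ centralizer ({w} : Set Y)
    have hle : zpowers w ≤ D := zpowers_le.mpr ⟨hw, mem_centralizer_singleton_iff.mpr rfl⟩
    have hD : zpowers w = D := by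
      refine Subgroup.eq_of_le_of_card_ge hle ?_
      rw [h4 w hw2]
      obtain ⟨c, hc⟩ : ∃ c, Nat.card M = Nat.card D * c := card_dvd_of_le inf_le_left
      rw [h8] at hc
      by_contra hgt
      have hc1 : c = 1 := by
        rcases Nat.lt_or_ge c 2 with h | h
        · rcases Nat.eq_zero_or_pos c with rfl | h0
          · simp at hc
          · omega
        · nlinarith
      rw [hc1, mul_one] at hc
      have hDM : D = M := Subgroup.eq_of_le_of_card_ge inf_le_left (by rw [h8, hc])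
      rcases huniq w hw (fun y hy => (mem_centralizer_singleton_iff.mp (hDM.ge hy).2).symm) with h | h
      · exact hw1 h
      · exact hwz h
    exact hD.ge ⟨hx, mem_centralizer_singleton_iff.mpr hxw⟩
  have hi1 : i ≠ 1 ∧ i ≠ z := ⟨fun h => hij (by rw [h, one_mul, mul_one]),
    fun h => hij (by rw [h]; exact (hzc j hj).symm)⟩
  have hj1 : j ≠ 1 ∧ j ≠ z := ⟨fun h => hij (by rw [h, one_mul, mul_one]),
    fun h => hij (by rw [h]; exact hzc i hi)⟩
  have hpowcase : ∀ w : Y, w ^ 2 = z → ∀ x ∈ zpowers w, x = 1 ∨ x = z ∨ x ^ 2 = z := by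
    intro w hw x hx
    obtain ⟨n, rfl⟩ := mem_zpowers_iff.mp hx
    rcases Int.even_or_odd' n with ⟨l, rfl | rfl⟩
    · rw [zpow_mul, zpow_ofNat, hw]
      rcases Int.even_or_odd' l with ⟨m, rfl | rfl⟩
      · exact Or.inl (by rw [zpow_mul, zpow_ofNat, hz2, one_zpow])
      · exact Or.inr (Or.inl (by rw [zpow_add_one, zpow_mul, zpow_ofNat, hz2, one_zpow, one_mul]))
    · refine Or.inr (Or.inr ?_)
      rw [← zpow_natCast, ← zpow_mul, show (2 * l + 1) * ((2 : ℕ) : ℤ) = 2 * (2 * l + 1) by push_cast; ring,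
        zpow_mul, zpow_ofNat, hw, zpow_add_one, zpow_mul, zpow_ofNat, hz2, one_zpow, one_mul]
  have hk2 : (i * j) ^ 2 = z := by
    have h1 : j * i = z * (i * j) := by
      rw [← (hcom j hj i hi).resolve_left fun h => hij (commutatorElement_eq_one_iff_mul_comm.mp h).symm,
        commutatorElement_def]
      group
    calc (i * j) ^ 2 = i * (j * i) * j := by rw [pow_two]; group
      _ = i ^ 2 * j ^ 2 * z := by
          rw [h1, show z * (i * j) = i * j * z from (hzc _ (mul_mem hi hj)).symm, pow_two, pow_two]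
          simp only [mul_assoc]
          rw [← hzc j hj]
      _ = z := by rw [hi2, hj2, mul_assoc, ← pow_two, hz2, mul_one]
  have hsq : ∀ x ∈ M, x = 1 ∨ x = z ∨ x ^ 2 = z := by
    intro x hx
    by_cases h1 : x * i = i * x
    · exact hpowcase i hi2 x (hcen i hi hi1.1 hi1.2 hi2 x hx h1)
    by_cases h2 : x * j = j * x
    · exact hpowcase j hj2 x (hcen j hj hj1.1 hj1.2 hj2 x hx h2)
    have hk : i * j ∈ M := mul_mem hi hj
    by_cases hk1 : i * j = 1 ∨ i * j = z
    · rcases hk1 with h | h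
      · exact absurd (by rw [eq_inv_of_mul_eq_one_right h]; exact (Commute.refl i).inv_right.eq) hij
      · refine absurd ?_ hij
        rw [show j = i⁻¹ * z by rw [← h, inv_mul_cancel_left], ← mul_assoc, mul_inv_cancel,
          one_mul, mul_assoc, ← hzc i hi, inv_mul_cancel_left]
    push Not at hk1
    refine hpowcase (i * j) hk2 x (hcen _ hk hk1.1 hk1.2 hk2 x hx ?_)
    have e1 : ⁅x, i⁆ = z := (hcom x hx i hi).resolve_left fun h => h1 (commutatorElement_eq_one_iff_mul_comm.mp h)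
    have e2 : ⁅x, j⁆ = z := (hcom x hx j hj).resolve_left fun h => h2 (commutatorElement_eq_one_iff_mul_comm.mp h)
    refine commutatorElement_eq_one_iff_mul_comm.mp ?_
    rw [commutatorElement_mul_right_eq_mul_conj, e1, e2, mul_assoc _ i, ← mul_assoc, mul_assoc z i z,
      hzc i hi, ← mul_assoc, ← pow_two, hz2, one_mul, mul_inv_cancel]
  refine ⟨z, hz, i, hi, j, hj, hz1, hz2, hi2, hj2, hzij, hzc, huniq, hcom, hsq, fun w hw hw1 hwz =>
    hcen w hw hw1 hwz (((hsq w hw).resolve_left hw1).resolve_left hwz)⟩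

theorem IsQuat.nonempty_iso {M : Subgroup Y} (hM : IsQuat M) :
    Nonempty (M ≃* QuaternionGroup 2) := by
  obtain ⟨z, hz, i, hi, j, hj, hz1, hz2, hi2, hj2, hzij, hzc, -⟩ := hM.props
  have h4 : orderOf (⟨i, hi⟩ : M) = 2 * 2 := by
    rw [Subgroup.orderOf_mk]
    refine (orderOf_eq_prime_pow (p := 2) (n := 1) ?_ ?_).trans (by norm_num)
    · rw [pow_one, hi2]; exact hz1
    · rw [show (2 : ℕ) ^ (1 + 1) = 2 * 2 by norm_num, pow_mul, hi2, hz2]
  have hji : j * i = i⁻¹ * j := by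
    have hi3 : i⁻¹ = z * i := inv_eq_of_mul_eq_one_right (by
      rw [← mul_assoc, hzc i hi, mul_assoc, ← pow_two, hi2, ← pow_two, hz2])
    have h1 : i * j = z * (j * i) := by rw [← hzij, commutatorElement_def]; group
    rw [hi3, mul_assoc, h1, ← mul_assoc z, ← pow_two, hz2, one_mul]
  obtain ⟨f, hf⟩ := LinearGroup.exists_quaternion_subgroup (n := 2) le_rfl (⟨i, hi⟩ : M) ⟨j, hj⟩
    h4 (Subtype.ext (by show j * j = i ^ 2; rw [← pow_two, hj2, hi2]))
    (Subtype.ext (by show j * i = i⁻¹ * j; exact hji))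
  refine ⟨(MulEquiv.ofBijective f ((Nat.bijective_iff_injective_and_card f).mpr ⟨hf, ?_⟩)).symm⟩
  rw [Nat.card_eq_fintype_card, QuaternionGroup.card, hM.1]

end Cfsg.Agent.NoncycEight
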