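import Cfsg.Agent.NoncycEight.Core

/-!
The structure of a `2`-group that is minimal, under odd order operators, with a noncyclic abelian
subgroup of order eight.
-/

set_option autoImplicit false
set_option linter.unusedSectionVars false

namespace Cfsg.Agent.NoncycEight

open Subgroup
open scoped commutatorElement

universe u

variable {Y : Type u} [Group Y] [Finite Y] {K : Type*} [Group K] [Finite K]

theorem IsKlein.map {X : Type*} [Group X] (f : Y →* X) (hf : Function.Injective f) {M : Subgroup Y}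
    (h : IsKlein M) : IsKlein (M.map f) := by
  refine ⟨?_, ?_, ?_⟩
  · rw [← Nat.card_congr (M.equivMapOfInjective f hf).toEquiv, h.1]
  · rintro _ ⟨a, ha, rfl⟩
    rw [← map_pow, h.2.1 a ha, map_one]
  · rintro _ ⟨a, ha, rfl⟩ _ ⟨b, hb, rfl⟩
    rw [← map_mul, h.2.2 a ha b hb, map_mul]

theorem IsQuat.map {X : Type*} [Group X] (f : Y →* X) (hf : Function.Injective f) {M : Subgroup Y}
    (h : IsQuat M) : IsQuat (M.map f) := by
  obtain ⟨h8, z, hz, i, hi, j, hj, h1, h2, h3, h4, h5, h6, h7, h9⟩ := h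
  refine ⟨by rw [← Nat.card_congr (M.equivMapOfInjective f hf).toEquiv, h8], f z,
    mem_map_of_mem f hz, f i, mem_map_of_mem f hi, f j, mem_map_of_mem f hj,
    fun h => h1 (hf (h.trans f.map_one.symm)), by rw [← map_pow, h2, map_one],
    by rw [← map_pow, h3], by rw [← map_pow, h4], ?_, ?_, ?_, ?_⟩
  · rw [← map_mul, ← map_mul]; exact fun h => h5 (hf h)
  · rintro _ ⟨a, ha, rfl⟩
    rw [← map_mul, h6 a ha, map_mul]
  · rintro _ ⟨a, ha, rfl⟩ hc
    rcases h7 a ha (fun x hx => hf (by rw [map_mul, map_mul]; exact hc _ (mem_map_of_mem f hx)))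
      with rfl | rfl
    · exact Or.inl f.map_one
    · exact Or.inr rfl
  · rintro _ ⟨a, ha, rfl⟩ _ ⟨b, hb, rfl⟩
    rcases h9 a ha b hb with h | h
    · exact Or.inl (by rw [← map_commutatorElement, h, map_one])
    · exact Or.inr (by rw [← map_commutatorElement, h])

/-- Adjoining a commuting element with square in `H`. -/
theorem sup_zpowers_sq {H : Subgroup Y} {f : Y} (hf : f ∉ H) (hfH : ∀ m ∈ H, m * f = f * m)
    (hf2 : f ^ 2 ∈ H) :
    Nat.card ↥(H ⊔ zpowers f) = Nat.card H * 2 ∧
      ∀ a ∈ H ⊔ zpowers f, a ∈ H ∨ f⁻¹ * a ∈ H := by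
  have hdec : ∀ a ∈ H ⊔ zpowers f, a ∈ H ∨ f⁻¹ * a ∈ H := by
    intro a ha
    obtain ⟨m, hm, g, hg, rfl⟩ := Coprime.exists_mul_of_mem_sup (H := zpowers f)
      (zpowers_le.mpr (centralizer_le_normalizer _ (mem_centralizer_iff.mpr hfH))) ha
    obtain ⟨j, rfl⟩ := mem_zpowers_iff.mp hg
    have hev : ∀ i : ℤ, f ^ (2 * i) ∈ H := fun i => by
      rw [zpow_mul, zpow_ofNat]; exact zpow_mem hf2 i
    rcases Int.even_or_odd' j with ⟨i, rfl | rfl⟩
    · exact Or.inl (mul_mem hm (hev i))
    · refine Or.inr ?_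
      rw [← mul_assoc, show f⁻¹ * m = m * f⁻¹ from
        ((show Commute m f from hfH m hm).inv_right).eq.symm, mul_assoc, ← zpow_neg_one, ← zpow_add,
        show (-1 : ℤ) + (2 * i + 1) = 2 * i by ring]
      exact mul_mem hm (hev i)
  refine ⟨?_, hdec⟩
  set A := H ⊔ zpowers f
  have hidx : (H.subgroupOf A).index = 2 := by
    refine index_eq_two_iff.mpr ⟨⟨f, mem_sup_right (mem_zpowers f)⟩, fun b => ?_⟩
    show Xor ((b : Y) * f ∈ H) ((b : Y) ∈ H)
    rcases hdec b b.2 with h | h
    · exact Or.inr ⟨h, fun h' => hf (by simpa using mul_mem (inv_mem h) h')⟩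
    · refine Or.inl ⟨?_, fun h' => hf (by simpa using mul_mem h' (inv_mem h))⟩
      have h1 : (b : Y) * f = f⁻¹ * b * f ^ 2 := by
        have hc := hfH _ h
        rw [pow_two, ← mul_assoc, hc]; group
      rw [h1]; exact mul_mem h hf2
  rw [← (H.subgroupOf A).card_mul_index, hidx,
    Nat.card_congr (subgroupOfEquivOfLe le_sup_left).toEquiv]

variable (φ : K →* MulAut Y) (hY : IsPGroup 2 Y) (hK : Odd (Nat.card K))

theorem exists_moves {M N : Subgroup Y} (hM : Inv φ M) (hle : N ≤ M) (hne : N ≠ M)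
    (hmv : moved (restr φ M hM) = ⊤) : ¬ ∀ k, ∀ m ∈ M, m⁻¹ * φ k m ∈ N := by
  intro h
  refine hne (le_antisymm hle fun m hm => ?_)
  have h1 : moved (restr φ M hM) ≤ N.subgroupOf M := by
    show Subgroup.closure _ ≤ _
    rw [closure_le]
    rintro _ ⟨⟨k, x⟩, rfl⟩
    exact h k x x.2
  exact h1 (hmv ▸ mem_top (⟨m, hm⟩ : M))

include hY hK in
/-- A moved invariant normal Klein four-group is central. -/
theorem klein_central {M : Subgroup Y} [M.Normal] (hM : Inv φ M) (hKl : IsKlein M)
    (hmv : moved (restr φ M hM) = ⊤) : M ≤ center Y := by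
  intro m hm
  refine mem_center_iff.mpr fun y => ?_
  have h := central_section φ hY hK M ⊥ hM (fun k y hy => by rw [mem_bot.mp hy, map_one]; exact one_mem _)
    bot_le (by rw [card_bot, hKl.1]) (exists_moves φ hM bot_le (fun h => by
      have := hKl.1; rw [← h, card_bot] at this; norm_num at this) hmv) y m hm
  exact commutatorElement_eq_one_iff_mul_comm.mp (mem_bot.mp h)

include hY hK in
/-- Over a moved invariant normal quaternion group. -/
theorem quat_over {M : Subgroup Y} [hMn : M.Normal] (hM : Inv φ M) (hQ : IsQuat M)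
    (hmv : moved (restr φ M hM) = ⊤) :
    M ⊔ centralizer (M : Set Y) = ⊤ ∧ (M ≠ ⊤ → ∃ c : Y, c ∉ M ∧ c ∈ centralizer (M : Set Y) ∧
      c ^ 2 ∈ M ∧ NA8 (M ⊔ zpowers c)) := by
  obtain ⟨h8, z, hz, i, hi, j, hj, hz1, hz2, hi2, hj2, hij, hzc, huniq, hcom⟩ := hQ
  set N := zpowers z
  have hNel : ∀ x ∈ N, x = 1 ∨ x = z := fun x hx => by
    obtain ⟨n, rfl⟩ := mem_zpowers_iff.mp hx
    rcases Int.even_or_odd' n with ⟨l, rfl | rfl⟩
    · exact Or.inl (by rw [zpow_mul, zpow_ofNat, hz2, one_zpow])
    · exact Or.inr (by rw [zpow_add_one, zpow_mul, zpow_ofNat, hz2, one_zpow, one_mul])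
  have hfixz : ∀ g : Y, g * z * g⁻¹ = z := by
    intro g
    refine (huniq _ (hMn.conj_mem z hz g) fun x hx => ?_).resolve_left fun h => hz1 ?_
    · have hc := hzc _ (hMn.conj_mem' x hx g)
      calc g * z * g⁻¹ * x = g * (z * (g⁻¹ * x * g)) * g⁻¹ := by group
        _ = g * ((g⁻¹ * x * g) * z) * g⁻¹ := by rw [hc]
        _ = x * (g * z * g⁻¹) := by group
    · rwa [mul_inv_eq_one, mul_eq_left] at h
  have hzcen : z ∈ center Y := mem_center_iff.mpr fun g => mul_inv_eq_iff_eq_mul.mp (hfixz g)
  haveI : N.Normal := ⟨fun x hx g => by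
    rw [mem_center_iff.mp (zpowers_le.mpr hzcen hx) g, mul_inv_cancel_right]
    exact hx⟩
  have hNinv : Inv φ N := by
    intro k x hx
    rcases hNel x hx with h | h <;> rw [h]
    · rw [map_one]; exact one_mem _
    · rw [(huniq _ (hM k z hz) fun y hy => ?_).resolve_left fun h => hz1 ((φ k).injective (h.trans (map_one _).symm))]
      · exact mem_zpowers z
      · have := congrArg (φ k) (mem_center_iff.mp hzcen (φ k⁻¹ y))
        rw [map_mul, map_mul, show φ k (φ k⁻¹ y) = y by
          rw [← MulAut.mul_apply, ← map_mul, mul_inv_cancel, map_one]; rfl] at this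
        exact this.symm
  have hNM : N ≤ M := zpowers_le.mpr hz
  have hNc : Nat.card N = 2 := by rw [Nat.card_zpowers, orderOf_eq_prime hz2 hz1]
  have hsec := central_section φ hY hK M N hM hNinv hNM (by rw [h8, hNc])
    (exists_moves φ hM hNM (fun h => by rw [h, h8] at hNc; norm_num at hNc) hmv)
  have hzij : ⁅i, j⁆ = z :=
    (hcom i hi j hj).resolve_left fun h => hij (commutatorElement_eq_one_iff_mul_comm.mp h)
  have hzji : ⁅j, i⁆ = z :=
    (hcom j hj i hi).resolve_left fun h => hij (commutatorElement_eq_one_iff_mul_comm.mp h).symm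
  have hzz : z * z = 1 := by rw [← pow_two, hz2]
  have htop : M ⊔ centralizer (M : Set Y) = ⊤ := by
    refine eq_top_iff.mpr fun y _ => ?_
    suffices h : ∃ m ∈ M, Commute (y * m) i ∧ Commute (y * m) j by
      obtain ⟨m, hm, h1, h2⟩ := h
      rw [show y = y * m * m⁻¹ by group]
      refine mul_mem (mem_sup_right (mem_centralizer_iff.mpr ?_)) (mem_sup_left (inv_mem hm))
      set D := M ⊓ centralizer ({y * m} : Set Y)
      have hiD : i ∈ D := ⟨hi, mem_centralizer_singleton_iff.mpr h1.eq.symm⟩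
      have hjD : j ∈ D := ⟨hj, mem_centralizer_singleton_iff.mpr h2.eq.symm⟩
      have hD : D = M := by
        refine Subgroup.eq_of_le_of_card_ge inf_le_left ?_
        have hlt : zpowers i < D := lt_of_le_of_ne (zpowers_le.mpr hiD) fun h => hij (by
          obtain ⟨n, hn⟩ := mem_zpowers_iff.mp (h.ge hjD)
          rw [← hn]; exact ((Commute.refl i).zpow_right n).eq)
        have h4 : Nat.card (zpowers i) = 4 := by
          rw [Nat.card_zpowers]
          refine orderOf_eq_prime_pow (p := 2) (n := 1) ?_ ?_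
          · rw [pow_one, hi2]; exact hz1
          · rw [show (2 : ℕ) ^ (1 + 1) = 2 * 2 by norm_num, pow_mul, hi2, hz2]
        obtain ⟨a, ha⟩ := (hY.to_subgroup D).exists_card_eq
        have h5 : 4 < Nat.card D := h4 ▸ lt_of_le_of_ne (card_le_of_le hlt.le)
          (fun h => hlt.ne (Subgroup.eq_of_le_of_card_ge hlt.le h.ge))
        rw [ha, show (4 : ℕ) = 2 ^ 2 by norm_num] at h5
        rw [h8, ha, show (8 : ℕ) = 2 ^ 3 by norm_num]
        exact Nat.pow_le_pow_right (by norm_num) ((Nat.pow_lt_pow_iff_right (by norm_num)).mp h5)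
      intro x hx
      exact (mem_centralizer_singleton_iff.mp (hD.ge hx).2)
    have hconj : ∀ m x e : Y, (e = 1 ∨ e = z) → m * x * m⁻¹ = e * x → ∀ u : Y,
        y * x * y⁻¹ = u * x → e * u = 1 → Commute (y * m) x := by
      intro m x e he hmx u hyx heu
      have h1 : y * e * y⁻¹ = e := by rcases he with rfl | rfl <;> simp [hfixz]
      show y * m * x = x * (y * m)
      calc y * m * x = y * (m * x * m⁻¹) * m := by group
        _ = (y * e * y⁻¹) * (y * x * y⁻¹) * (y * m) := by rw [hmx]; group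
        _ = x * (y * m) := by rw [h1, hyx, ← mul_assoc, ← mul_assoc, heu, one_mul, mul_assoc]
    have hu : ∀ x ∈ M, y * x * y⁻¹ = x ∨ y * x * y⁻¹ = z * x := fun x hx => by
      rcases hNel _ (hsec y x hx) with h | h
      · exact Or.inl (mul_inv_eq_one.mp h)
      · exact Or.inr (by rw [← h, commutatorElement_def, inv_mul_cancel_right])
    have cij : i * j * i⁻¹ = z * j := by rw [← hzij, commutatorElement_def]; group
    have cji : j * i * j⁻¹ = z * i := by rw [← hzji, commutatorElement_def]; group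
    have cii : i * i * i⁻¹ = 1 * i := by group
    have cjj : j * j * j⁻¹ = 1 * j := by group
    have ckk : (i * j) * i * (i * j)⁻¹ = z * i := by
      calc (i * j) * i * (i * j)⁻¹ = i * (j * i * j⁻¹) * i⁻¹ := by group
        _ = (i * z * i⁻¹) * i := by rw [cji]; group
        _ = z * i := by rw [hfixz]
    have ckj : (i * j) * j * (i * j)⁻¹ = z * j := by rw [← cij]; group
    rcases hu i hi with h1 | h1 <;> rcases hu j hj with h2 | h2
    · exact ⟨1, one_mem _, hconj 1 i 1 (Or.inl rfl) (by simp) 1 (by simpa using h1) (by simp),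
        hconj 1 j 1 (Or.inl rfl) (by simp) 1 (by simpa using h2) (by simp)⟩
    · exact ⟨i, hi, hconj i i 1 (Or.inl rfl) cii 1 (by simpa using h1) (by simp),
        hconj i j z (Or.inr rfl) cij z h2 hzz⟩
    · exact ⟨j, hj, hconj j i z (Or.inr rfl) cji z h1 hzz,
        hconj j j 1 (Or.inl rfl) cjj 1 (by simpa using h2) (by simp)⟩
    · exact ⟨i * j, mul_mem hi hj, hconj _ i z (Or.inr rfl) ckk z h1 hzz,
        hconj _ j z (Or.inr rfl) ckj z h2 hzz⟩
  refine ⟨htop, fun hMt => ?_⟩
  have hzC : N ≤ centralizer (M : Set Y) := zpowers_le.mpr (mem_centralizer_iff.mpr hzc)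
  have hlt : N < centralizer (M : Set Y) := lt_of_le_of_ne hzC fun h => hMt (by
    rw [← htop, ← h, sup_eq_left.mpr hNM])
  obtain ⟨c, hcC, hcN, hc2⟩ := exists_sq_mem hY hlt (le_top.trans_eq (normalizer_eq_top N).symm)
  have hcM : c ∉ M := fun h => hcN (by
    rcases huniq c h fun x hx => (mem_centralizer_iff.mp hcC x hx).symm with rfl | rfl
    · exact one_mem _
    · exact mem_zpowers c)
  refine ⟨c, hcM, hcC, hNM hc2, ?_⟩
  have hi4 : orderOf i = 4 := by
    refine orderOf_eq_prime_pow (p := 2) (n := 1) ?_ ?_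
    · rw [pow_one, hi2]; exact hz1
    · rw [show (2 : ℕ) ^ (1 + 1) = 2 * 2 by norm_num, pow_mul, hi2, hz2]
  refine (na8_of (M := zpowers i) (fun a ha b hb => ?_) (by rw [Nat.card_zpowers, hi4])
    (fun h => hcM (zpowers_le.mpr hi h))
    (fun m hm => mem_centralizer_iff.mp hcC m (zpowers_le.mpr hi hm))
    ((zpowers_le.mpr (hi2 ▸ pow_mem (mem_zpowers i) 2) : N ≤ zpowers i) hc2) ?_).mono
    (sup_le_sup_right (zpowers_le.mpr hi) _)
  · obtain ⟨m, rfl⟩ := mem_zpowers_iff.mp ha
    obtain ⟨n, rfl⟩ := mem_zpowers_iff.mp hb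
    exact ((Commute.refl i).zpow_zpow m n).eq
  · rw [show 4 = 2 * 2 from rfl, pow_mul]
    rcases hNel _ hc2 with h | h <;> rw [h]
    · exact one_pow 2
    · exact hz2

include hY hK in
/-- The Frattini subgroup is central, and small. -/
theorem frattini_cases [Nontrivial Y] (hmv : moved φ = ⊤)
    (hmin : ∀ R : Subgroup Y, R ≠ ⊤ → Inv φ R → ¬ NA8 R)
    (ih : ∀ (Y' : Type u) [Group Y'] [Finite Y'], Nat.card Y' < Nat.card Y →
      ∀ ψ : K →* MulAut Y', IsPGroup 2 Y' → ¬ NA8 (⊤ : Subgroup Y') → moved ψ = ⊤ →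
        Nontrivial Y' → IsKlein (⊤ : Subgroup Y') ∨ IsQuat (⊤ : Subgroup Y')) :
    frattini Y ≤ center Y ∧ ((Nat.card (frattini Y) ≤ 2 ∧ ∀ k, ∀ f ∈ frattini Y, φ k f = f) ∨
      IsKlein (frattini Y)) := by
  set P := frattini Y
  have hPt : P ≠ ⊤ := fun h => by
    obtain ⟨M, hM⟩ : ∃ M : Subgroup Y, IsCoatom M :=
      ((eq_top_or_exists_le_coatom (⊥ : Subgroup Y)).resolve_left bot_ne_top).imp fun _ h => h.1
    exact hM.1 (top_le_iff.mp (h ▸ frattini_le_coatom hM))
  have hP : Inv φ P := inv_of_characteristic φ P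
  have hno : ¬ NA8 P := hmin P hPt hP
  have hnoP : ¬ NA8 (⊤ : Subgroup P) := fun h => hno (by
    have := na8_map P.subtype P.subtype_injective h
    rwa [← MonoidHom.range_eq_map, range_subtype] at this)
  set ψ := restr φ P hP
  set D := moved ψ
  by_cases hD : D = ⊥
  · have hfix : ∀ k, ∀ f ∈ P, φ k f = f := fun k f hf => by
      have h := mem_moved ψ k ⟨f, hf⟩
      rw [show moved ψ = ⊥ from hD, mem_bot, inv_mul_eq_one] at h
      exact (congrArg Subtype.val h).symm
    have hcen : P ≤ center Y := le_center_of_fixed hmv hfix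
    refine ⟨hcen, ?_⟩
    have hc : ∀ a ∈ P, ∀ b ∈ P, a * b = b * a := fun a ha b _ => (mem_center_iff.mp (hcen ha) b).symm
    by_cases hcyc : IsCyclic P
    · refine Or.inl ⟨?_, hfix⟩
      by_contra hgt
      obtain ⟨⟨g, hg⟩, hgen⟩ := hcyc.exists_generator
      have hord : orderOf g = Nat.card P := by
        rw [← Subgroup.orderOf_mk g hg, orderOf_eq_card_of_forall_mem_zpowers hgen]
      obtain ⟨a, ha⟩ := (hY.to_subgroup P).exists_card_eq
      have ha2 : 2 ≤ a := by
        by_contra h
        exact hgt (ha ▸ (Nat.pow_le_pow_right (by norm_num) (by omega : a ≤ 1)))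
      have h4 : 4 ∣ orderOf g := by
        rw [hord, ha]; exact (pow_dvd_pow 2 ha2 : 2 ^ 2 ∣ 2 ^ a)
      set E := zpowers (g ^ 2)
      haveI : E.Normal := ⟨fun x hx y => by
        rw [mem_center_iff.mp (zpowers_le.mpr (pow_mem (hcen hg) 2) hx) y, mul_inv_cancel_right]
        exact hx⟩
      have hYc : commutator Y ≤ center Y := (PGroup.commutator_le_frattini hY).trans hcen
      have hcE : commutator Y ≤ E := by
        rw [commutator_def, Subgroup.commutator_le]
        intro x _ y _
        have h1 : ⁅x, y⁆ ^ 2 = 1 := by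
          rw [← PGroup.comm_pow_left hYc, commutatorElement_eq_one_iff_mul_comm]
          exact (mem_center_iff.mp (hcen (PGroup.pow_mem_frattini hY x)) y).symm
        obtain ⟨n, hn⟩ := mem_zpowers_iff.mp (hgen ⟨_, PGroup.comm_mem_frattini hY x y⟩)
        have hn' : g ^ n = ⁅x, y⁆ := congrArg Subtype.val hn
        rw [← hn', ← zpow_natCast, ← zpow_mul, ← orderOf_dvd_iff_zpow_eq_one] at h1
        rw [← hn']
        obtain ⟨l, rfl⟩ : (2 : ℤ) ∣ n := by
          have := (Int.natCast_dvd_natCast.mpr h4).trans h1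
          omega
        rw [zpow_mul, zpow_ofNat]
        exact zpow_mem (mem_zpowers _) l
      have hle := frattini_le_of_squares hY hK hmv hcE hYc fun k y => by
        rw [hfix k _ (PGroup.pow_mem_frattini hY y), inv_mul_cancel]; exact one_mem _
      obtain ⟨l, hl⟩ := mem_zpowers_iff.mp (hle hg)
      rw [← zpow_natCast, ← zpow_mul] at hl
      have h5 : g ^ (((2 : ℕ) : ℤ) * l - 1) = 1 := by
        rw [zpow_sub_one, hl, mul_inv_cancel]
      have h6 := (Int.natCast_dvd_natCast.mpr h4).trans (orderOf_dvd_iff_zpow_eq_one.mpr h5)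
      omega
    · obtain ⟨M, hMP, hM⟩ := cyclic_of_unique hY hc hcyc
      rcases hMP.eq_or_lt with rfl | hlt
      · exact Or.inr hM
      · exact absurd (na8_of_klein hY hM hlt fun m hm f hf => hc m (hMP hm) f hf) hno
  · haveI : Nontrivial D := (nontrivial_iff_ne_bot D).mpr hD
    have hDinv : Inv ψ D := inv_of_moved_le ψ le_rfl
    have hlt : Nat.card D < Nat.card Y :=
      (card_le_card_group D).trans_lt (lt_of_le_of_ne (card_le_card_group P)
        fun h => hPt (eq_top_of_card_eq P h))
    have hmvD := moved_restr_moved ψ (hY.to_subgroup P) hK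
    have hnoD : ¬ NA8 (⊤ : Subgroup D) := fun h => hnoP ((by
      have := na8_map D.subtype D.subtype_injective h
      rwa [← MonoidHom.range_eq_map, range_subtype] at this : NA8 D).mono le_top)
    have htop : (⊤ : Subgroup D).map D.subtype = D := by rw [← MonoidHom.range_eq_map, range_subtype]
    have hPtop : (⊤ : Subgroup P).map P.subtype = P := by rw [← MonoidHom.range_eq_map, range_subtype]
    have key : (IsKlein P ∨ IsQuat P) ∧ moved ψ = ⊤ := by
      rcases ih D hlt (restr ψ D hDinv) ((hY.to_subgroup P).to_subgroup D) hnoD hmvD inferInstance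
        with h | h
      · have hKl : IsKlein D := htop ▸ h.map D.subtype D.subtype_injective
        by_cases hDt : D = ⊤
        · exact ⟨Or.inl (hPtop ▸ (hDt ▸ hKl).map P.subtype P.subtype_injective), hDt⟩
        · exact absurd (na8_of_klein (hY.to_subgroup P) hKl (lt_top_iff_ne_top.mpr hDt) fun m hm f _ =>
            ((mem_center_iff.mp (klein_central ψ (hY.to_subgroup P) hK hDinv hKl hmvD hm)) f).symm) hnoP
      · have hQ : IsQuat D := htop ▸ h.map D.subtype D.subtype_injective
        by_cases hDt : D = ⊤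
        · exact ⟨Or.inr (hPtop ▸ (hDt ▸ hQ).map P.subtype P.subtype_injective), hDt⟩
        · obtain ⟨c, -, -, -, hc⟩ := (quat_over ψ (hY.to_subgroup P) hK hDinv hQ hmvD).2 hDt
          exact absurd (hc.mono le_top) hnoP
    obtain ⟨hkq | hkq, hmvP⟩ := key
    · exact ⟨klein_central φ hY hK hP hkq hmvP, Or.inr hkq⟩
    · exfalso
      have h1 := frattini_nongenerating (K := centralizer (P : Set Y))
        (by rw [sup_comm]; exact (quat_over φ hY hK hP hkq hmvP).1)
      obtain ⟨-, -, -, i, hi, j, hj, -, -, -, -, hij, -⟩ := hkq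
      exact hij (mem_centralizer_iff.mp (h1 ▸ mem_top j : j ∈ centralizer (P : Set Y)) i hi)

include hY hK in
theorem core_aux : ∀ (n : ℕ) (Y : Type u) [Group Y] [Finite Y], Nat.card Y ≤ n →
    ∀ φ : K →* MulAut Y, IsPGroup 2 Y → ¬ NA8 (⊤ : Subgroup Y) → moved φ = ⊤ → Nontrivial Y →
      IsKlein (⊤ : Subgroup Y) ∨ IsQuat (⊤ : Subgroup Y) := by
  intro n
  induction n with
  | zero => intro Y _ _ h; exact absurd h (by simp [Nat.card_pos.ne'])
  | succ n ih =>
    intro Y _ _ hn φ hY hno hmv hnt
    obtain ⟨hcen, hcase⟩ := frattini_cases φ hY hK hmv (fun R _ _ h => hno (h.mono le_top))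
      fun Y' _ _ hlt => ih Y' (by omega)
    set P := frattini Y
    rcases hcase with ⟨hP2, hfix⟩ | hKl
    swap
    · rcases (le_top : P ≤ ⊤).eq_or_lt with h | h
      · exact Or.inl (h ▸ hKl)
      · exact absurd (na8_of_klein hY hKl h fun m hm f _ => (mem_center_iff.mp (hcen hm) f).symm) hno
    have hYP : commutator Y ≤ P := PGroup.commutator_le_frattini hY
    have hYc : commutator Y ≤ center Y := hYP.trans hcen
    by_cases hab : center Y = ⊤
    · -- elementary abelian
      have hc : ∀ a b : Y, a * b = b * a := fun a b => mem_center_iff.mp (hab ▸ mem_top b) a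
      have hbot : P ≤ ⊥ := frattini_le_of_squares hY hK hmv (D := (⊥ : Subgroup Y))
        (by
          rw [commutator_def, Subgroup.commutator_le]
          exact fun a _ b _ => mem_bot.mpr (commutatorElement_eq_one_iff_mul_comm.mpr (hc a b)))
        hYc fun k y => by rw [hfix k _ (PGroup.pow_mem_frattini hY y), inv_mul_cancel]; exact one_mem _
      have hsq : ∀ y : Y, y ^ 2 = 1 := fun y => mem_bot.mp (hbot (PGroup.pow_mem_frattini hY y))
      obtain ⟨a, ha⟩ := hY.exists_card_eq
      rcases lt_trichotomy a 2 with h2 | rfl | h2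
      · exfalso
        have hle : Nat.card Y ≤ 2 := ha ▸ (Nat.pow_le_pow_right (by norm_num) (by omega : a ≤ 1))
        have hbot' : moved φ ≤ ⊥ := by
          show Subgroup.closure _ ≤ _
          rw [closure_le]
          rintro _ ⟨⟨k, y⟩, rfl⟩
          refine mem_bot.mpr ?_
          show y⁻¹ * φ k y = 1
          by_contra hne
          have hy : y ≠ 1 := fun h => hne (by rw [h, map_one, inv_one, mul_one])
          have hky : φ k y ≠ 1 := fun h => hy ((φ k).injective (h.trans (map_one _).symm))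
          cases nonempty_fintype Y
          classical
          have h3 : ({1, y, φ k y} : Finset Y).card ≤ 2 :=
            (Finset.card_le_univ _).trans (Nat.card_eq_fintype_card (α := Y) ▸ hle)
          rw [Finset.card_eq_three.mpr ⟨1, y, φ k y, hy.symm, hky.symm,
            fun h => hne (by rw [← h, inv_mul_cancel]), rfl⟩] at h3
          omega
        exact (bot_ne_top (α := Subgroup Y)) (top_le_iff.mp (hmv ▸ hbot'))
      · exact Or.inl ⟨by rw [card_top, ha]; norm_num, fun y _ => hsq y, fun x _ y _ => hc x y⟩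
      · exfalso
        haveI : Fact (Nat.Prime 2) := ⟨Nat.prime_two⟩
        obtain ⟨M, hM⟩ := Sylow.exists_subgroup_card_pow_prime 2 (n := 2)
          (ha.symm ▸ pow_dvd_pow 2 h2.le : 2 ^ 2 ∣ Nat.card Y)
        refine hno (na8_of_klein hY (M := M) ⟨by rw [hM]; norm_num, fun m _ => hsq m, fun x _ y _ => hc x y⟩
          (lt_top_iff_ne_top.mpr fun h => ?_) fun m _ f _ => hc m f)
        rw [h, card_top, ha] at hM
        exact absurd (Nat.pow_right_injective le_rfl hM) h2.ne'
    -- quaternion
    obtain ⟨x₀, hx₀⟩ : ∃ x : Y, x ∉ center Y := by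
      by_contra h; push Not at h; exact hab (eq_top_iff.mpr fun y _ => h y)
    obtain ⟨y₀, hy₀⟩ : ∃ y, ¬ y * x₀ = x₀ * y := by
      by_contra h; push Not at h; exact hx₀ (mem_center_iff.mpr h)
    set z := ⁅y₀, x₀⁆
    have hzP : z ∈ P := PGroup.comm_mem_frattini hY _ _
    have hz1 : z ≠ 1 := fun h => hy₀ (commutatorElement_eq_one_iff_mul_comm.mp h)
    have hz2 : z ^ 2 = 1 := by
      rw [← PGroup.comm_pow_left hYc, commutatorElement_eq_one_iff_mul_comm]
      exact (mem_center_iff.mp (hcen (PGroup.pow_mem_frattini hY y₀)) x₀).symm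
    have hPc : Nat.card P = 2 := le_antisymm hP2 (by
      by_contra h
      exact hz1 (mem_bot.mp ((eq_bot_of_card_le P (by omega)) ▸ hzP)))
    have hPel : ∀ f ∈ P, f = 1 ∨ f = z := by
      intro f hf
      have hP' : zpowers z = P := Subgroup.eq_of_le_of_card_ge (zpowers_le.mpr hzP)
        (by rw [hPc, Nat.card_zpowers, orderOf_eq_prime hz2 hz1])
      obtain ⟨m, rfl⟩ := mem_zpowers_iff.mp (hP'.ge hf)
      rcases Int.even_or_odd' m with ⟨l, rfl | rfl⟩
      · exact Or.inl (by rw [zpow_mul, zpow_ofNat, hz2, one_zpow])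
      · exact Or.inr (by rw [zpow_add_one, zpow_mul, zpow_ofNat, hz2, one_zpow, one_mul])
    have hsqP : ∀ y : Y, y ^ 2 ∈ P := fun y => PGroup.pow_mem_frattini hY y
    have hP1 : ∀ f ∈ P, f ^ 2 = 1 := fun f hf => by
      rcases hPel f hf with rfl | rfl
      · exact one_pow 2
      · exact hz2
    have hfour : ∀ y : Y, y ^ 4 = 1 := fun y => by
      rw [show 4 = 2 * 2 from rfl, pow_mul]; exact hP1 _ (hsqP y)
    have hcP : ∀ x : Y, ∀ m ∈ P, m * x = x * m := fun x m hm => (mem_center_iff.mp (hcen hm) x).symm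
    have hsup := fun (x : Y) (hx : x ∉ P) => sup_zpowers_sq hx (hcP x) (hsqP x)
    have hMc : ∀ x : Y, ∀ a ∈ P ⊔ zpowers x, a * x = x * a := fun x a ha =>
      (mem_centralizer_singleton_iff.mp ((sup_le (fun m hm => mem_centralizer_singleton_iff.mpr (hcP x m hm))
        (zpowers_le.mpr (mem_centralizer_singleton_iff.mpr rfl)) :
          P ⊔ zpowers x ≤ centralizer ({x} : Set Y)) ha))
    have hMab : ∀ x : Y, ∀ a ∈ P ⊔ zpowers x, ∀ b ∈ P ⊔ zpowers x, a * b = b * a := fun x a ha b hb =>
      (mem_centralizer_singleton_iff.mp ((sup_le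
        (fun m hm => mem_centralizer_singleton_iff.mpr (hcP a m hm))
        (zpowers_le.mpr (mem_centralizer_singleton_iff.mpr (hMc x a ha).symm)) :
          P ⊔ zpowers x ≤ centralizer ({a} : Set Y)) hb)).symm
    -- centralizers of elements outside `P` are minimal
    have hCx : ∀ x, x ∉ P → ∀ f, f * x = x * f → f ∈ P ⊔ zpowers x := by
      intro x hx f hfx
      by_contra hf
      refine hno ((na8_of (hMab x) (by rw [(hsup x hx).1, hPc]) hf (fun m hm => ?_)
        (mem_sup_left (hsqP f)) (hfour f)).mono le_top)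
      exact mem_centralizer_singleton_iff.mp ((sup_le
        (fun m hm => mem_centralizer_singleton_iff.mpr (hcP f m hm))
        (zpowers_le.mpr (mem_centralizer_singleton_iff.mpr hfx.symm)) :
          P ⊔ zpowers x ≤ centralizer ({f} : Set Y)) hm)
    have hx₀P : x₀ ∉ P := fun h => hx₀ (hcen h)
    set M₀ := P ⊔ zpowers x₀
    have hy₀M : y₀ ∉ M₀ := fun h => hy₀ (hMc x₀ y₀ h)
    have hcomm : ∀ a b : Y, ⁅a, b⁆ = 1 ∨ ⁅a, b⁆ = z := fun a b => hPel _ (PGroup.comm_mem_frattini hY a b)
    have hM₀ : ∀ g : Y, g ∈ M₀ ∨ y₀⁻¹ * g ∈ M₀ := by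
      intro g
      by_cases hg : g * x₀ = x₀ * g
      · exact Or.inl (hCx x₀ hx₀P g hg)
      refine Or.inr (hCx x₀ hx₀P _ (commutatorElement_eq_one_iff_mul_comm.mp ?_))
      rw [PGroup.comm_mul_left hYc, PGroup.comm_inv_left hYc]
      rcases hcomm g x₀ with h | h
      · exact absurd (commutatorElement_eq_one_iff_mul_comm.mp h) hg
      · rw [h]; exact inv_mul_cancel z
    have hindex : M₀.index = 2 := by
      refine index_eq_two_iff.mpr ⟨y₀, fun b => ?_⟩
      rcases hM₀ b with h | h
      · exact Or.inr ⟨h, fun h' => hy₀M (by simpa using mul_mem (inv_mem h) h')⟩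
      · refine Or.inl ⟨?_, fun h' => hy₀M (by simpa using mul_mem h' (inv_mem h))⟩
        have e : b * y₀ = ⁅y₀, y₀⁻¹ * b⁆ * (y₀⁻¹ * b) * y₀ ^ 2 := by
          rw [commutatorElement_def, pow_two]; group
        rw [e]
        exact mul_mem (mul_mem (mem_sup_left (PGroup.comm_mem_frattini hY _ _)) h)
          (mem_sup_left (hsqP y₀))
    have h8 : Nat.card Y = 8 := by
      rw [← M₀.card_mul_index, (hsup x₀ hx₀P).1, hPc, hindex]
    -- all elements outside `P` square to `z`
    have hcoset : ∀ g m : Y, m ∈ P → (g * m) ^ 2 = g ^ 2 := fun g m hm => by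
      rw [(show Commute g m from (hcP g m hm).symm).mul_pow, hP1 m hm, mul_one]
    have hinvP : Inv φ P := inv_of_characteristic φ P
    have hsqz : ∀ x, x ∉ P → x ^ 2 = z := by
      intro x hx
      refine (hPel _ (hsqP x)).resolve_left fun hx2 => ?_
      have hmove : ∀ u, u ∉ P → ∃ k, u⁻¹ * φ k u ∉ P := fun u hu => by
        by_contra h; push Not at h
        exact hu (mem_of_fixed hY hK hmv P hinvP hYP h)
      obtain ⟨k, hk⟩ := hmove x hx
      set w := φ k x
      have hw2 : w ^ 2 = 1 := by rw [← map_pow, hx2, map_one]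
      have hwP : w ∉ P := not_mem_of_inv φ hinvP hx k
      have hwx : ⁅w, x⁆ = z := (hcomm w x).resolve_left fun h => by
        rcases (hsup x hx).2 w (hCx x hx w (commutatorElement_eq_one_iff_mul_comm.mp h)) with h' | h'
        · exact hwP h'
        · exact hk h'
      set u := w * x
      have hwinv : w⁻¹ = w := inv_eq_of_mul_eq_one_right (by rw [← pow_two, hw2])
      have hxinv : x⁻¹ = x := inv_eq_of_mul_eq_one_right (by rw [← pow_two, hx2])
      have hu2 : u ^ 2 = z := by
        rw [← hwx, commutatorElement_def, hwinv, hxinv, pow_two, mul_assoc, mul_assoc, mul_assoc]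
      have huP : u ∉ P := fun h => hz1 (hu2 ▸ hP1 u h)
      obtain ⟨k', hk'⟩ := hmove u huP
      set g := φ k' u
      have hg2 : g ^ 2 = z := by rw [← map_pow, hu2, hfix k' z hzP]
      have hgP : g ∉ P := not_mem_of_inv φ hinvP huP k'
      -- cosets of `P`
      by_cases hgx : g * x = x * g
      · rcases (hsup x hx).2 g (hCx x hx g hgx) with h | h
        · exact hgP h
        · have := hcoset x _ h
          rw [mul_inv_cancel_left, hg2, hx2] at this
          exact hz1 this
      · have h : (w⁻¹ * g) * x = x * (w⁻¹ * g) := commutatorElement_eq_one_iff_mul_comm.mp (by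
          rw [PGroup.comm_mul_left hYc, PGroup.comm_inv_left hYc, hwx]
          rcases hcomm g x with h | h
          · exact absurd (commutatorElement_eq_one_iff_mul_comm.mp h) hgx
          · rw [h, inv_mul_cancel])
        rcases (hsup x hx).2 _ (hCx x hx _ h) with h' | h'
        · have := hcoset w _ h'
          rw [mul_inv_cancel_left, hg2, hw2] at this
          exact hz1 this
        · refine hk' ?_
          have e : u⁻¹ * g = x⁻¹ * (w⁻¹ * g) := by show (w * x)⁻¹ * g = _; group
          rw [e]; exact h'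
    refine Or.inr ⟨by rw [card_top, h8], z, trivial, x₀, trivial, y₀, trivial, hz1, hz2,
      hsqz x₀ hx₀P, hsqz y₀ (fun h => hy₀M (mem_sup_left h)), fun h => hy₀ h.symm,
      fun m _ => (hcP m z hzP).symm, fun m _ hm => hPel m ?_, fun a _ b _ => hcomm a b⟩
    by_contra hmP
    have h1 := hCx m hmP x₀ (hm x₀ trivial).symm
    have h2 := hCx m hmP y₀ (hm y₀ trivial).symm
    exact hy₀ (hMab m y₀ h2 x₀ h1)

/-- The four possible structures. -/
def Conclusion (Y : Type u) [Group Y] : Prop :=
  (∀ a b : Y, a * b = b * a) ∨ (Cfsg.IsExtraspecial 2 Y ∧ 32 ≤ Nat.card Y) ∨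
    (∃ M : Subgroup Y, IsQuat M ∧ M.index = 2 ∧ M ⊔ centralizer (M : Set Y) = ⊤) ∨
      (Cfsg.IsSpecial 2 Y ∧ Nat.card (center Y) = 4)

include hY hK in
/-- The structure theorem. -/
theorem structure_of_minimal (h8 : NA8 (⊤ : Subgroup Y))
    (hmin : ∀ R : Subgroup Y, R ≠ ⊤ → Inv φ R → ¬ NA8 R) : Conclusion Y := by
  have hcore := fun (Y' : Type u) (_ : Group Y') (_ : Finite Y') =>
    core_aux (K := K) hY hK (Nat.card Y') Y' le_rfl
  by_cases hmv : moved φ = ⊤
  swap
  · by_cases hb : moved φ = ⊥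
    · obtain ⟨A, -, hA1, hA2, hA3⟩ := h8
      have hAi : Inv φ A := fun k a ha => by
        have h := mem_moved φ k a
        rw [hb, mem_bot, inv_mul_eq_one] at h
        rwa [← h]
      have hA : A = ⊤ := by
        by_contra h
        exact hmin A h hAi ⟨A, le_rfl, hA1, hA2, hA3⟩
      exact Or.inl fun a b => hA1 a (hA ▸ mem_top a) b (hA ▸ mem_top b)
    set M := moved φ
    have hM : Inv φ M := inv_of_moved_le φ le_rfl
    haveI : Nontrivial M := (nontrivial_iff_ne_bot M).mpr hb
    have htop : (⊤ : Subgroup M).map M.subtype = M := by rw [← MonoidHom.range_eq_map, range_subtype]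
    have hno : ¬ NA8 (⊤ : Subgroup M) := fun h => hmin M hmv hM (htop ▸ na8_map M.subtype M.subtype_injective h)
    have hmvM := moved_restr_moved φ hY hK
    rcases hcore M inferInstance inferInstance (restr φ M hM) (hY.to_subgroup M) hno hmvM inferInstance
      with h | h
    · have hKl : IsKlein M := htop ▸ h.map M.subtype M.subtype_injective
      have hcen := klein_central φ hY hK hM hKl hmvM
      obtain ⟨f, -, hfM, hf2⟩ := exists_sq_mem hY (lt_top_iff_ne_top.mpr hmv)
        (le_top.trans_eq (normalizer_eq_top M).symm)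
      have hcomm : ∀ m ∈ M, m * f = f * m := fun m hm => (mem_center_iff.mp (hcen hm) f).symm
      have hNA := na8_of hKl.2.2 hKl.1 hfM hcomm hf2
        (by rw [show 4 = 2 * 2 from rfl, pow_mul]; exact hKl.2.1 _ hf2)
      have hR : M ⊔ zpowers f = ⊤ := by
        by_contra h
        exact hmin _ h (inv_of_moved_le φ le_sup_left) hNA
      left
      intro a b
      have hf : f ∈ center Y := by
        refine mem_center_iff.mpr fun g => ?_
        exact mem_centralizer_singleton_iff.mp ((sup_le
          (fun m hm => mem_centralizer_singleton_iff.mpr (hcomm m hm))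
          (zpowers_le.mpr (mem_centralizer_singleton_iff.mpr rfl)) :
            M ⊔ zpowers f ≤ centralizer ({f} : Set Y)) (hR ▸ mem_top g))
      exact mem_center_iff.mp ((sup_le hcen (zpowers_le.mpr hf) : M ⊔ zpowers f ≤ center Y)
        (hR ▸ mem_top b)) a
    · have hQ : IsQuat M := htop ▸ h.map M.subtype M.subtype_injective
      obtain ⟨hMC, hex⟩ := quat_over φ hY hK hM hQ hmvM
      obtain ⟨c, hcM, hcC, hc2, hNA⟩ := hex hmv
      have hR : M ⊔ zpowers c = ⊤ := by
        by_contra h
        exact hmin _ h (inv_of_moved_le φ le_sup_left) hNA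
      refine Or.inr (Or.inr (Or.inl ⟨M, hQ, ?_, hMC⟩))
      have h := (sup_zpowers_sq hcM (mem_centralizer_iff.mp hcC) hc2).1
      rw [hR, card_top, ← M.card_mul_index] at h
      exact Nat.eq_of_mul_eq_mul_left Nat.card_pos h
  haveI : Nontrivial Y := by
    obtain ⟨A, -, -, -, h⟩ := h8
    exact Finite.one_lt_card_iff_nontrivial.mp (by have := card_le_card_group A; omega)
  by_cases hab : center Y = ⊤
  · exact Or.inl fun a b => mem_center_iff.mp (hab ▸ mem_top b) a
  obtain ⟨hcen, hcase⟩ := frattini_cases φ hY hK hmv hmin fun Y' inst1 inst2 _ => hcore Y' inst1 inst2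
  set P := frattini Y
  set Z := center Y
  have hYP : commutator Y ≤ P := PGroup.commutator_le_frattini hY
  have hYc : commutator Y ≤ Z := hYP.trans hcen
  have hZinv : Inv φ Z := inv_of_characteristic φ Z
  have hnoZ : ¬ NA8 Z := hmin Z hab hZinv
  have hne : commutator Y ≠ ⊥ := fun h => hab (eq_top_iff.mpr fun b _ => mem_center_iff.mpr fun a =>
    commutatorElement_eq_one_iff_mul_comm.mp
      (mem_bot.mp (h ▸ PGroup.commutatorElement_mem_commutator a b)))
  haveI : Fact (Nat.Prime 2) := ⟨Nat.prime_two⟩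
  obtain ⟨e, he⟩ := (hY.to_subgroup (commutator Y)).exists_card_eq
  have he0 : e ≠ 0 := fun h => hne (eq_bot_of_card_eq _ (by rw [he, h, pow_zero]))
  rcases hcase with ⟨hP2, hfix⟩ | hKl
  · have hc2 : 2 ≤ Nat.card (commutator Y) := he ▸ Nat.le_self_pow he0 2
    have hYeq : commutator Y = P := Subgroup.eq_of_le_of_card_ge hYP (hP2.trans hc2)
    have hPc : Nat.card P = 2 := le_antisymm hP2 (hYeq ▸ hc2)
    have hPsq : ∀ m ∈ P, m ^ 2 = 1 := fun m hm => by
      have h := pow_card_eq_one' (x := (⟨m, hm⟩ : P))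
      rw [hPc] at h
      exact congrArg Subtype.val h
    have hZP : Z = P := by
      refine le_antisymm (fun z hz => ?_) hcen
      by_contra hzP
      have hcz : ∀ m ∈ P, m * z = z * m := fun m hm => (mem_center_iff.mp (hcen hm) z).symm
      have hs := sup_zpowers_sq hzP hcz (PGroup.pow_mem_frattini hY z)
      set M := P ⊔ zpowers z
      have hMZ : M ≤ Z := sup_le hcen (zpowers_le.mpr hz)
      have hMeq : M = Z := by
        refine le_antisymm hMZ fun f hf => ?_
        by_contra hfM
        refine hnoZ ((na8_of (fun a ha b _ => (mem_center_iff.mp (hMZ ha) b).symm)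
          (by rw [hs.1, hPc]) hfM (fun m hm => (mem_center_iff.mp (hMZ hm) f).symm)
          (mem_sup_left (PGroup.pow_mem_frattini hY f)) ?_).mono (sup_le hMZ (zpowers_le.mpr hf)))
        rw [show 4 = 2 * 2 from rfl, pow_mul]
        exact hPsq _ (PGroup.pow_mem_frattini hY f)
      exact hzP (mem_of_fixed hY hK hmv P (inv_of_characteristic φ P) hYP fun k =>
        inv_mul_mem_of_card_double hcen (by rw [← hMeq, hs.1]) hz (hZinv k z hz) hzP
          (not_mem_of_inv φ (inv_of_characteristic φ P) hzP k))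
    refine Or.inr (Or.inl ⟨⟨⟨hY, hZP.symm, hYeq.trans hZP.symm⟩, (congrArg (fun H : Subgroup Y => Nat.card H) hZP).trans hPc⟩, ?_⟩)
    obtain ⟨A, -, hA1, -, hA3⟩ := h8
    obtain ⟨a, ha⟩ := hY.exists_card_eq
    by_contra hlt
    have h5 : a ≤ 4 := by
      by_contra h
      exact hlt (ha ▸ (Nat.pow_le_pow_right (n := 2) (by norm_num) (by omega : 5 ≤ a)))
    have hA : A ≠ ⊤ := fun h => hab (eq_top_iff.mpr fun b _ => mem_center_iff.mpr fun x =>
      hA1 x (h ▸ mem_top x) b (h ▸ mem_top b))
    have ha4 : a = 4 := by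
      have h1 : Nat.card A < Nat.card Y := lt_of_le_of_ne (card_le_card_group A)
        fun h => hA (eq_top_of_card_eq A h)
      rw [hA3, ha, show (8 : ℕ) = 2 ^ 3 by norm_num] at h1
      have := (Nat.pow_lt_pow_iff_right (by norm_num)).mp h1
      omega
    have hYcard : Nat.card Y = 16 := by rw [ha, ha4]; norm_num
    have hA8 : A.index = 2 := by
      have h := A.card_mul_index
      rw [hA3, hYcard] at h
      omega
    obtain ⟨x, hxA⟩ : ∃ x, x ∉ A := by
      by_contra h; push Not at h; exact hA (eq_top_iff.mpr fun y _ => h y)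
    haveI : A.Normal := normal_of_index_eq_two hA8
    let f : A →* P := MonoidHom.mk'
      (fun b => ⟨⁅(b : Y), x⁆, PGroup.comm_mem_frattini hY _ _⟩)
      (fun b c => Subtype.ext (PGroup.comm_mul_left hYc _ _ _))
    have hk : 4 ≤ Nat.card f.ker := by
      have h := f.ker.card_mul_index
      rw [index_ker, hA3] at h
      have h2 : Nat.card f.range ≤ 2 := (card_le_card_group _).trans hP2
      nlinarith
    have hker : f.ker ≤ Z.subgroupOf A := by
      intro b hb
      refine mem_center_iff.mpr fun g => ?_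
      have hb' : (b : Y) * x = x * b := commutatorElement_eq_one_iff_mul_comm.mp (congrArg Subtype.val hb)
      have hle : A ⊔ zpowers x ≤ centralizer ({(b : Y)} : Set Y) :=
        sup_le (fun c hc => mem_centralizer_singleton_iff.mpr (hA1 c hc b b.2))
          (zpowers_le.mpr (mem_centralizer_singleton_iff.mpr hb'.symm))
      refine mem_centralizer_singleton_iff.mp (hle ?_)
      by_cases hg : g ∈ A
      · exact mem_sup_left hg
      · have h := (mul_mem_iff_of_index_two hA8 (a := g) (b := x⁻¹)).mpr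
          ⟨fun h => absurd h hg, fun h => absurd (inv_mem_iff.mp h) hxA⟩
        simpa using mul_mem (mem_sup_left h) (mem_sup_right (mem_zpowers x) : x ∈ A ⊔ zpowers x)
    have := (card_le_of_le hker).trans
      (Nat.le_of_dvd Nat.card_pos (card_comap_dvd_of_injective Z A.subtype A.subtype_injective))
    rw [hZP, hPc] at this
    omega
  · have hZP : Z = P := by
      refine le_antisymm ?_ hcen
      by_contra h
      exact hnoZ (na8_of_klein hY hKl (lt_of_le_of_ne hcen fun he => h he.ge)
        fun m hm f _ => (mem_center_iff.mp (hcen hm) f).symm)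
    refine Or.inr (Or.inr (Or.inr ⟨⟨hY, hZP.symm, ?_⟩, (congrArg (fun H : Subgroup Y => Nat.card H) hZP).trans hKl.1⟩))
    refine Eq.trans ?_ hZP.symm
    refine Subgroup.eq_of_le_of_card_ge hYP ?_
    by_contra hlt
    have he1 : e = 1 := by
      rw [hKl.1, he, show (4 : ℕ) = 2 ^ 2 by norm_num] at hlt
      have := (Nat.pow_lt_pow_iff_right (by norm_num : 1 < 2)).mp (lt_of_not_ge hlt)
      omega
    have hc2 : Nat.card P = Nat.card (commutator Y) * 2 := by rw [hKl.1, he, he1]; norm_num
    have hle : P ≤ commutator Y := frattini_le_of_squares hY hK hmv le_rfl hYc fun k y => by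
      have hcinv := inv_of_characteristic φ (commutator Y)
      by_cases hy : y ^ 2 ∈ commutator Y
      · exact mul_mem (inv_mem hy) (hcinv k _ hy)
      · exact inv_mul_mem_of_card_double hYP hc2 (PGroup.pow_mem_frattini hY y)
          (inv_of_characteristic φ P k _ (PGroup.pow_mem_frattini hY y)) hy
          (not_mem_of_inv φ hcinv hy k)
    exact hlt (card_le_of_le hle)

end Cfsg.Agent.NoncycEight
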